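import Cfsg.Agent.Symplectic.HermSubGen
import Cfsg.Agent.H36.SUThreeGeo.Basic
import Cfsg.Agent.S5650

/-!
A group between a subfield group and `SU₃`: rational bases, and what an element fixing a rational
isotropic point does to the root group.
-/

set_option autoImplicit false
set_option linter.unusedSectionVars false

namespace Cfsg.Agent.H98.UThree.Sub

open scoped MatrixGroups Matrix
open Matrix Cfsg
open Cfsg.Agent.H95 hiding exists_aniso_perp3 exists_isotropic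
open Cfsg.Agent.Symplectic (HSub ut ue EichOK ut_mulVec ue_mulVec ut_mem_iso ut_mem_sl ue_mem_iso
  ue_mem_sl UtIn conj_ut ut_smul_vec ut_add ut_zero ut_inv)

variable {F : Type*} [Field F] [Fintype F]
  {σ : F ≃+* F} {f : (Fin 3 → F) → (Fin 3 → F) → F} {F₀ : Subfield F}
  {V : AddSubgroup (Fin 3 → F)} {M : Subgroup (GL (Fin 3) F)}

/-- A rational basis: a hyperbolic pair and a vector of length one orthogonal to it. -/
structure Trip (H : HSub σ f F₀ V) (e d v : Fin 3 → F) : Prop where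
  he : e ∈ V
  hd : d ∈ V
  hv : v ∈ V
  ee : f e e = 0
  dd : f d d = 0
  ed : f e d = 1
  ve : f v e = 0
  vd : f v d = 0
  vv : f v v = 1

variable {H : HSub σ f F₀ V}

namespace Trip

variable {e d v : Fin 3 → F} (T : Trip H e d v)
include T

lemma de : f d e = 1 := by rw [← u_conj H.herm, T.ed, map_one]

lemma ev : f e v = 0 := u_symm_zero H.herm T.ve

lemma dv : f d v = 0 := u_symm_zero H.herm T.vd

lemma e_ne : e ≠ 0 := fun h => by
  have := T.ed
  rw [h, u_zero_left H.herm] at this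
  exact zero_ne_one this

lemma iso0 : H.Iso0 e := ⟨T.he, T.e_ne, T.ee⟩

lemma expand (y : Fin 3 → F) : y = f y d • e + f y e • d + f y v • v := by
  have := Cfsg.Agent.H36.SLThreeForms.expand H.herm T.ee T.dd T.ed T.ve T.vd
    (by rw [T.vv]; exact one_ne_zero) y
  rwa [T.vv, div_one] at this

lemma mem_iff (y : Fin 3 → F) : y ∈ V ↔ f y d ∈ F₀ ∧ f y e ∈ F₀ ∧ f y v ∈ F₀ := by
  refine ⟨fun h => ⟨H.rat y h d T.hd, H.rat y h e T.he, H.rat y h v T.hv⟩, fun ⟨h1, h2, h3⟩ => ?_⟩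
  rw [T.expand y]
  exact V.add_mem (V.add_mem (H.smul _ h1 e T.he) (H.smul _ h2 d T.hd)) (H.smul _ h3 v T.hv)

lemma ext {g g' : GL (Fin 3) F}
    (h1 : (g : Matrix (Fin 3) (Fin 3) F) *ᵥ e = (g' : Matrix (Fin 3) (Fin 3) F) *ᵥ e)
    (h2 : (g : Matrix (Fin 3) (Fin 3) F) *ᵥ d = (g' : Matrix (Fin 3) (Fin 3) F) *ᵥ d)
    (h3 : (g : Matrix (Fin 3) (Fin 3) F) *ᵥ v = (g' : Matrix (Fin 3) (Fin 3) F) *ᵥ v) : g = g' := by
  refine gl_ext fun x => ?_
  rw [T.expand x]
  simp only [mulVec_add, mulVec_smul, h1, h2, h3]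

lemma symm : Trip H d e v :=
  ⟨T.hd, T.he, T.hv, T.dd, T.ee, T.de, T.vd, T.ve, T.vv⟩

/-- A third isotropic vector. -/
lemma third : ∃ t ∈ F₀, t ≠ 0 ∧ t + σ t = -1 ∧ H.Iso0 (v + t • e + d) := by
  have hf := H.herm
  obtain ⟨t, ht, ht1⟩ := H.trace_rat (r := -1) (F₀.neg_mem F₀.one_mem) (by simp)
  refine ⟨t, ht, fun h => ?_, ht1, V.add_mem (V.add_mem T.hv (H.smul t ht e T.he)) T.hd,
    fun h => ?_, ?_⟩
  · rw [h, map_zero, add_zero] at ht1
    exact one_ne_zero (neg_eq_zero.1 ht1.symm)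
  · have := congrArg (fun y => f y e) h
    simp [u_add_left hf, u_smul_left hf, T.ve, T.ee, T.de, u_zero_left hf] at this
  · simp only [u_add_left hf, u_add_right hf, u_smul_left hf, u_smul_right hf, T.ee, T.dd, T.ed,
      T.de, T.ve, T.vd, T.ev, T.dv, T.vv]
    linear_combination ht1

end Trip

variable (H)

/-- Every rational isotropic vector is part of a rational basis. -/
lemma exists_trip {e : Fin 3 → F} (he : H.Iso0 e) : ∃ d v, Trip H e d v := by
  have hf := H.herm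
  obtain ⟨d, hd, hdd, hde, hed⟩ := H.partner he.1 he.2.1 he.2.2
  have hP := H.isProj_pair he.1 hd he.2.2 hdd hde
  obtain ⟨x, hx, hPx, hxx⟩ := hP.exists_aniso H (by simp)
  obtain ⟨xe, xd⟩ := H.projPair_perp LinearMap.id he.2.2 hdd hde x
  rw [hPx] at xe xd
  obtain ⟨c, hc, hc1⟩ := H.norm (f x x)⁻¹ (F₀.inv_mem (H.rat x hx x hx)) (by rw [map_inv₀, u_conj hf])
  refine ⟨d, c • x, he.1, hd, H.smul c hc x hx, he.2.2, hdd, hed, ?_, ?_, ?_⟩
  · rw [u_smul_left hf, xe, mul_zero]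
  · rw [u_smul_left hf, xd, mul_zero]
  · rw [u_smul_left hf, u_smul_right hf, ← mul_assoc, hc1, inv_mul_cancel₀ hxx]

lemma exists_trip' : ∃ e d v, Trip H e d v := by
  obtain ⟨e, he, -⟩ := H.isProj_id.exists_iso H (by simp)
  exact ⟨e, exists_trip H he⟩

/-- The rational isotropic points form one orbit of the subfield group. -/
lemma exists_send (hO : H.Over M) {e w : Fin 3 → F} (he : H.Iso0 e) (hw : H.Iso0 w) :
    ∃ g ∈ M, ∃ c ∈ F₀, c ≠ 0 ∧ (g : Matrix (Fin 3) (Fin 3) F) *ᵥ e = c • w := by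
  have hf := H.herm
  obtain ⟨d, v, T⟩ := exists_trip H he
  obtain ⟨hα, hβ, hγ⟩ := (T.mem_iff w).1 hw.1
  by_cases hwe : f w e = 0
  · have hw' := T.expand w
    rw [hwe, zero_smul, add_zero] at hw'
    have hγ0 : f w v = 0 := by
      have h := hw.2.2
      rw [hw'] at h
      simp only [u_add_left hf, u_add_right hf, u_smul_left hf, u_smul_right hf, T.ee, T.ev, T.ve,
        T.vv] at h
      simpa using h
    rw [hγ0, zero_smul, add_zero] at hw'
    have hα0 : f w d ≠ 0 := fun h => hw.2.1 (by rw [hw', h, zero_smul])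
    refine ⟨1, M.one_mem, (f w d)⁻¹, F₀.inv_mem hα, inv_ne_zero hα0, ?_⟩
    rw [Units.val_one, one_mulVec]
    rw [show (f w d)⁻¹ • w = (f w d)⁻¹ • (f w d • e) from congrArg _ hw', inv_smul_smul₀ hα0]
  obtain ⟨z, hzV, hzz, hze, hzw⟩ : ∃ z ∈ V, f z z = 0 ∧ f e z = 1 ∧ f w z ≠ 0 := by
    by_cases hwd : f w d = 0
    · obtain ⟨t, ht, ht0, ht1, hz⟩ := T.third
      refine ⟨_, hz.1, hz.2.2, by simp [u_add_right hf, u_smul_right hf, T.ev, T.ee, T.ed], ?_⟩
      have hγ0 : f w v = 0 := by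
        have h := hw.2.2
        rw [T.expand w, hwd, zero_smul, zero_add] at h
        simp only [u_add_left hf, u_add_right hf, u_smul_left hf, u_smul_right hf, T.dd, T.dv, T.vd,
          T.vv] at h
        simpa using h
      rw [u_add_right hf, u_add_right hf, u_smul_right hf, hγ0, hwd, zero_add, add_zero]
      exact mul_ne_zero ((map_ne_zero_iff σ σ.injective).2 ht0) hwe
    · exact ⟨d, T.hd, T.dd, T.ed, hwd⟩
  set c := (f w z)⁻¹ with hc
  have hcF : c ∈ F₀ := F₀.inv_mem (H.rat w hw.1 z hzV)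
  obtain ⟨g, hg, hge⟩ := H.exists_move hO (x := e) (y := c • w) T.he (H.smul c hcF w hw.1) hzV T.ee
    (by rw [u_smul_left hf, u_smul_right hf, hw.2.2, mul_zero, mul_zero]) hzz hze
    (by rw [u_smul_left hf, hc, inv_mul_cancel₀ hzw])
  exact ⟨g, hg, c, hcF, inv_ne_zero hzw, hge⟩

/-- Transvections at one rational point give the whole group. -/
lemma full_of_utIn (hO : H.Over M) {e : Fin 3 → F} (he : H.Iso0 e) (hU : UtIn H.herm M e)
    {y : Fin 3 → F} (hy : f y y = 0) : UtIn H.herm M y := by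
  have hf := H.herm
  have hall : ∀ w, H.Iso0 w → UtIn hf M w := by
    intro w hw
    obtain ⟨g, hg, c, hc, hc0, hge⟩ := exists_send H hO he hw
    have h1 := hU.conj hf he.2.2 hg (H.iso_of_mem hO hg)
    rw [hge] at h1
    have h2 := h1.smul hf (by rw [u_smul_left hf, u_smul_right hf, hw.2.2]; ring) c⁻¹
    rwa [inv_smul_smul₀ hc0] at h2
  obtain ⟨d, v, T⟩ := exists_trip H he
  obtain ⟨t, ht, ht0, ht1, hz⟩ := T.third
  refine Cfsg.Agent.H36.SUThreeGeo.utIn_all_of_pair hf T.ee T.dd T.ed T.ve T.vd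
    (by rw [T.vv]; exact one_ne_zero) (hall e he) (hall d T.symm.iso0) hz.2.2 (hall _ hz) ?_ hy
  simp [u_add_left hf, u_smul_left hf, T.vv, T.ev, T.dv]

variable {H}

lemma conj_ue {g : GL (Fin 3) F} (hg : g ∈ isoGrp f) {e d : Fin 3 → F} {t : F}
    (h : EichOK H.herm e d t) :
    EichOK H.herm ((g : Matrix (Fin 3) (Fin 3) F) *ᵥ e) ((g : Matrix (Fin 3) (Fin 3) F) *ᵥ d) t ∧
    g * ue H.herm e d t * g⁻¹ = ue H.herm ((g : Matrix (Fin 3) (Fin 3) F) *ᵥ e)
      ((g : Matrix (Fin 3) (Fin 3) F) *ᵥ d) t := by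
  have hi := mem_isoGrp.1 hg
  have h' : EichOK H.herm ((g : Matrix (Fin 3) (Fin 3) F) *ᵥ e)
      ((g : Matrix (Fin 3) (Fin 3) F) *ᵥ d) t :=
    ⟨by rw [hi]; exact h.1, by rw [hi]; exact h.2.1, by rw [hi]; exact h.2.2⟩
  refine ⟨h', gl_ext fun x => ?_⟩
  set x' := ((g⁻¹ : GL (Fin 3) F) : Matrix (Fin 3) (Fin 3) F) *ᵥ x with hx'
  have hx : x = (g : Matrix (Fin 3) (Fin 3) F) *ᵥ x' := by rw [hx', mulVec_inv_mulVec]
  rw [mul_mulVec, mul_mulVec, ← hx', ue_mulVec H.herm h, ue_mulVec H.herm h', mulVec_add, mulVec_add,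
    mulVec_smul, mulVec_smul, hx, hi, hi]

lemma ue_smul_left {e d : Fin 3 → F} {t c : F} (h : EichOK H.herm (c • e) d t) (hc : c ≠ 0) :
    EichOK H.herm e (σ c • d) (c * σ c * t) ∧
    ue H.herm (c • e) d t = ue H.herm e (σ c • d) (c * σ c * t) := by
  have hf := H.herm
  have hσc : σ c ≠ 0 := (map_ne_zero_iff σ σ.injective).2 hc
  have h' : EichOK hf e (σ c • d) (c * σ c * t) := by
    refine ⟨?_, ?_, ?_⟩
    · have := h.1
      rw [u_smul_left hf, u_smul_right hf] at this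
      exact (mul_eq_zero.1 ((mul_eq_zero.1 this).resolve_left hc)).resolve_left hσc
    · have := h.2.1
      rw [u_smul_right hf] at this
      rw [u_smul_left hf, (mul_eq_zero.1 this).resolve_left hσc, mul_zero]
    · rw [u_smul_left hf, u_smul_right hf, map_mul, map_mul, u_inv hf]
      linear_combination (c * σ c) * h.2.2
  refine ⟨h', gl_ext fun x => ?_⟩
  rw [ue_mulVec hf h, ue_mulVec hf h', u_smul_right hf, u_smul_right hf, u_inv hf]
  module

lemma ue_perp {e d v : Fin 3 → F} (T : Trip H e d v) {δ r t : F}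
    (h : EichOK H.herm e (δ • v + r • e) t) :
    EichOK H.herm e (δ • v) (t + r - σ r) ∧
    ue H.herm e (δ • v + r • e) t = ue H.herm e (δ • v) (t + r - σ r) := by
  have hf := H.herm
  have h' : EichOK hf e (δ • v) (t + r - σ r) := by
    refine ⟨T.ee, by rw [u_smul_left hf, T.ve, mul_zero], ?_⟩
    have := h.2.2
    simp only [u_add_left hf, u_add_right hf, u_smul_left hf, u_smul_right hf, T.vv, T.ve, T.ev,
      T.ee] at this ⊢
    rw [map_sub, map_add, u_inv hf]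
    linear_combination this
  refine ⟨h', gl_ext fun x => ?_⟩
  rw [ue_mulVec hf h, ue_mulVec hf h', u_add_right hf, u_smul_right hf, u_smul_right hf]
  module

lemma ue_zero {e : Fin 3 → F} (he : f e e = 0) {t : F} (h : EichOK H.herm e 0 t) :
    σ t = -t ∧ ue H.herm e 0 t = ut H.herm e t := by
  refine ⟨?_, gl_ext fun x => ?_⟩
  · have := h.2.2
    rw [u_zero_left H.herm, neg_zero] at this
    linear_combination this
  · rw [ue_mulVec H.herm h, ut_mulVec H.herm he, smul_zero, add_zero, u_zero_right H.herm, sub_zero]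

variable (H)

/-- No transvection parameters outside the subfield. -/
def NoNew (M : Subgroup (GL (Fin 3) F)) : Prop :=
  ∀ e, H.Iso0 e → ∀ a, σ a = -a → ut H.herm e a ∈ M → a ∈ F₀

variable {H}

variable (H) in
include H in
/-- Detecting membership in the subfield. -/
lemma mem_of_skew_diff {δ : F} (h : ∀ γ ∈ F₀, γ * δ - σ (γ * δ) ∈ F₀) : δ ∈ F₀ := by
  obtain ⟨θ, hθ, hθσ⟩ := H.exists_theta
  have h1 := h 1 F₀.one_mem
  rw [one_mul] at h1
  have h2 := h θ hθ
  have h3 : (θ - σ θ) * δ ∈ F₀ := by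
    have := F₀.sub_mem h2 (F₀.mul_mem (H.stable θ hθ) h1)
    convert this using 1
    rw [map_mul]
    ring
  have h4 := F₀.div_mem h3 (F₀.sub_mem hθ (H.stable θ hθ))
  rwa [mul_div_cancel_left₀ _ (sub_ne_zero.2 (Ne.symm hθσ))] at h4

/-- The root group of `M` at a rational point is rational. -/
lemma param_rat (hO : H.Over M) (hN : NoNew H M) {e d v : Fin 3 → F} (T : Trip H e d v) {δ t : F}
    (h : EichOK H.herm e (δ • v) t) (hu : ue H.herm e (δ • v) t ∈ M) : δ ∈ F₀ ∧ t ∈ F₀ := by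
  have hf := H.herm
  have rat : ∀ γ ∈ F₀, ∃ t' ∈ F₀, EichOK hf e (γ • v) t' ∧ ue hf e (γ • v) t' ∈ M := by
    intro γ hγ
    have hγv := H.smul γ hγ v T.hv
    obtain ⟨t', ht', ht'1⟩ := H.trace_rat (F₀.neg_mem (H.rat _ hγv _ hγv)) (H.neg_self_fix (γ • v))
    have hok : EichOK hf e (γ • v) t' := ⟨T.ee, by rw [u_smul_left hf, T.ve, mul_zero], ht'1⟩
    exact ⟨t', ht', hok, H.ue_rat hO T.he hγv ht' hok⟩
  have hδ : δ ∈ F₀ := by
    refine mem_of_skew_diff H fun γ hγ => ?_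
    obtain ⟨t', -, hok, hmem⟩ := rat (σ γ) (H.stable γ hγ)
    have hskew : σ (γ * δ - σ (γ * δ)) = -(γ * δ - σ (γ * δ)) := by rw [map_sub, u_inv hf]; ring
    refine hN e T.iso0 _ hskew ?_
    have h2 := M.mul_mem (M.inv_mem (M.mul_mem hu hmem)) (M.mul_mem hmem hu)
    have key : ue hf e (σ γ • v) t' * ue hf e (δ • v) t
        = ue hf e (δ • v) t * ue hf e (σ γ • v) t' * ut hf e (σ γ * σ δ - δ * γ) := by
      refine gl_ext fun x => ?_
      simp only [mul_mulVec, ue_mulVec hf h, ue_mulVec hf hok, ut_mulVec hf T.ee, u_add_left hf,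
        u_smul_left hf, u_smul_right hf, T.ee, T.ve, T.ev, T.vv, map_mul, u_inv hf]
      module
    rw [key, inv_mul_cancel_left] at h2
    have h3 := M.inv_mem h2
    rw [ut_inv hf T.ee] at h3
    rwa [show γ * δ - σ (γ * δ) = -(σ γ * σ δ - δ * γ) by rw [map_mul]; ring]
  refine ⟨hδ, ?_⟩
  obtain ⟨t', ht', hok, hmem⟩ := rat (-δ) (F₀.neg_mem hδ)
  have hskew : σ (t + t' + δ * σ δ) = -(t + t' + δ * σ δ) := by
    have e1 := h.2.2
    have e2 := hok.2.2
    simp only [u_smul_left hf, u_smul_right hf, T.vv, map_neg] at e1 e2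
    rw [map_add, map_add, map_mul, u_inv hf]
    linear_combination e1 + e2
  have hprod : ue hf e (δ • v) t * ue hf e (-δ • v) t' = ut hf e (t + t' + δ * σ δ) := by
    refine gl_ext fun x => ?_
    simp only [mul_mulVec, ue_mulVec hf h, ue_mulVec hf hok, ut_mulVec hf T.ee, u_add_left hf,
      u_smul_left hf, u_smul_right hf, T.ee, T.ve, T.ev, T.vv, map_neg]
    module
  have h1 := hN e T.iso0 _ hskew (hprod ▸ M.mul_mem hu hmem)
  have h2 := F₀.sub_mem (F₀.sub_mem h1 ht') (F₀.mul_mem hδ (H.stable δ hδ))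
  convert h2 using 1
  ring

/-- An element fixing a rational isotropic point. -/
lemma fixer_rat (hO : H.Over M) (hN : NoNew H M) {e d v : Fin 3 → F} (T : Trip H e d v)
    {y : GL (Fin 3) F} (hy : y ∈ M) {l : F} (hye : (y : Matrix (Fin 3) (Fin 3) F) *ᵥ e = l • e) :
    ∃ μ ν : F, (y : Matrix (Fin 3) (Fin 3) F) *ᵥ v = μ • v + ν • e ∧ μ * σ μ = 1 ∧
      σ l * μ ∈ F₀ ∧ σ l * ν ∈ F₀ ∧ l * σ l ∈ F₀ := by
  have hf := H.herm
  have hyi := H.iso_of_mem hO hy
  have hi := mem_isoGrp.1 hyi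
  have hl : l ≠ 0 := fun h => T.e_ne (by
    rw [← inv_mulVec_mulVec y e, hye, h, zero_smul, mulVec_zero])
  set w := (y : Matrix (Fin 3) (Fin 3) F) *ᵥ v with hw
  have hwe : f w e = 0 := by
    have h1 : f w (l • e) = 0 := by rw [hw, ← hye, hi, T.ve]
    rw [u_smul_right hf] at h1
    exact (mul_eq_zero.1 h1).resolve_left ((map_ne_zero_iff σ σ.injective).2 hl)
  obtain ⟨μ, ν, hexp⟩ : ∃ μ ν : F, w = μ • v + ν • e :=
    ⟨f w v, f w d, by conv_lhs => rw [T.expand w, hwe, zero_smul, add_zero, add_comm]⟩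
  have hμ : μ * σ μ = 1 := by
    have h := hi v v
    rw [← hw, hexp] at h
    simp only [u_add_left hf, u_add_right hf, u_smul_left hf, u_smul_right hf, T.vv, T.ve, T.ev,
      T.ee] at h
    linear_combination h
  -- the centre of the root group
  obtain ⟨s, hs, hs0, hss⟩ := H.skew
  have hN1 : l * σ l ∈ F₀ := by
    have h1 := M.mul_mem (M.mul_mem hy (H.ut_rat hO T.he T.ee hs hss)) (M.inv_mem hy)
    rw [conj_ut hf hyi T.ee, hye, ut_smul_vec hf T.ee] at h1
    have h2 := hN e T.iso0 _ (by rw [map_mul, map_mul, u_inv hf, hss]; ring) h1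
    simpa [hs0] using F₀.div_mem h2 hs
  have hroot : ∀ γ ∈ F₀, σ l * (γ * μ) ∈ F₀ ∧ σ l * (γ * ν) - σ (σ l * (γ * ν)) ∈ F₀ := by
    intro γ hγ
    have hγv := H.smul γ hγ v T.hv
    obtain ⟨t, ht, ht1⟩ := H.trace_rat (F₀.neg_mem (H.rat _ hγv _ hγv)) (H.neg_self_fix (γ • v))
    have hok : EichOK hf e (γ • v) t := ⟨T.ee, by rw [u_smul_left hf, T.ve, mul_zero], ht1⟩
    have h1 := M.mul_mem (M.mul_mem hy (H.ue_rat hO T.he hγv ht hok)) (M.inv_mem hy)
    obtain ⟨o1, e1⟩ := conj_ue (H := H) hyi hok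
    rw [e1] at h1
    rw [hye, mulVec_smul, ← hw] at h1 o1
    obtain ⟨o2, e2⟩ := ue_smul_left (H := H) o1 hl
    rw [e2] at h1
    have hd : σ l • γ • w = (σ l * (γ * μ)) • v + (σ l * (γ * ν)) • e := by
      rw [hexp]; module
    rw [hd] at o2 h1
    obtain ⟨o3, e3⟩ := ue_perp T o2
    rw [e3] at h1
    obtain ⟨p1, p2⟩ := param_rat hO hN T o3 h1
    refine ⟨p1, ?_⟩
    have := F₀.sub_mem p2 (F₀.mul_mem hN1 ht)
    convert this using 1
    ring
  refine ⟨μ, ν, hexp, hμ, ?_, ?_, hN1⟩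
  · simpa using (hroot 1 F₀.one_mem).1
  · refine mem_of_skew_diff H fun γ hγ => ?_
    have := (hroot γ hγ).2
    rwa [mul_left_comm] at this

end Cfsg.Agent.H98.UThree.Sub
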