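import Cfsg.Agent.H98.UThree.Sub.Basic
import Cfsg.Agent.Linear.Dickson.SubfieldMax

/-!
A new transvection parameter at a rational point gives all of them, when the fixed subfield of the
smaller field has at least three elements.
-/

set_option autoImplicit false
set_option linter.unusedSectionVars false
set_option linter.style.haveILetI false

namespace Cfsg.Agent.H98.UThree.Sub

open scoped MatrixGroups Matrix
open Matrix Cfsg Cfsg.Agent.Linear Cfsg.Agent.Linear.Dickson
open Cfsg.Agent.H95 hiding exists_aniso_perp3 exists_isotropic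
open Cfsg.Agent.Symplectic (HSub ut ut_mulVec ut_mem_iso UtIn)

variable {F : Type*} [Field F] [Fintype F]
  {σ : F ≃+* F} {f : (Fin 3 → F) → (Fin 3 → F) → F} {F₀ : Subfield F}
  {V : AddSubgroup (Fin 3 → F)} {M : Subgroup (GL (Fin 3) F)} {H : HSub σ f F₀ V}

/-- The fixed subfield of `σ`. -/
def fixedField (σ : F ≃+* F) : Subfield F := RingHom.eqLocusField σ.toRingHom (RingHom.id F)

lemma mem_fixedField {x : F} : x ∈ fixedField σ ↔ σ x = x := Iff.rfl

/-- A `σ`-stable subfield moved by `σ` has the square of the order of its fixed subfield. -/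
lemma card_eq_sq (hinv : ∀ x, σ (σ x) = x) (L : Subfield F) (hL : ∀ x ∈ L, σ x ∈ L) {θ : F}
    (hθ : θ ∈ L) (hθσ : σ θ ≠ θ) :
    Nat.card L = Nat.card ↥(L ⊓ fixedField σ) ^ 2 := by
  have hne : θ - σ θ ≠ 0 := sub_ne_zero.2 (Ne.symm hθσ)
  let Φ : ↥(L ⊓ fixedField σ) × ↥(L ⊓ fixedField σ) → L :=
    fun p => ⟨(p.1 : F) + p.2 * θ, L.add_mem p.1.2.1 (L.mul_mem p.2.2.1 hθ)⟩
  rw [sq, ← Nat.card_prod]
  refine (Nat.card_congr (Equiv.ofBijective Φ ⟨?_, ?_⟩)).symm
  · rintro ⟨a, b⟩ ⟨a', b'⟩ h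
    have h1 : (a : F) + b * θ = a' + b' * θ := congrArg Subtype.val h
    have h2 := congrArg σ h1
    rw [map_add, map_add, map_mul, map_mul, mem_fixedField.1 a.2.2, mem_fixedField.1 b.2.2,
      mem_fixedField.1 a'.2.2, mem_fixedField.1 b'.2.2] at h2
    have h3 : ((b : F) - b') * (θ - σ θ) = 0 := by linear_combination h1 - h2
    have hb : (b : F) = b' := sub_eq_zero.1 ((mul_eq_zero.1 h3).resolve_right hne)
    have ha : (a : F) = a' := by linear_combination h1 - θ * hb
    exact Prod.ext (Subtype.ext ha) (Subtype.ext hb)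
  · rintro ⟨x, hx⟩
    set b := (x - σ x) / (θ - σ θ) with hb
    have hbL : b ∈ L := L.div_mem (L.sub_mem hx (hL x hx)) (L.sub_mem hθ (hL θ hθ))
    have hbσ : σ b = b := by
      rw [hb, map_div₀, map_sub, map_sub, hinv, hinv, ← neg_sub x, ← neg_sub θ, neg_div_neg_eq]
    have haσ : σ (x - b * θ) = x - b * θ := by
      rw [map_sub, map_mul, hbσ]
      have : b * (θ - σ θ) = x - σ x := by rw [hb]; field_simp
      linear_combination this
    exact ⟨(⟨x - b * θ, L.sub_mem hx (L.mul_mem hbL hθ), haσ⟩, ⟨b, hbL, hbσ⟩),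
      Subtype.ext (by simp [Φ])⟩

/-- A new parameter gives every parameter at that point. -/
theorem utIn_of_new (hO : H.Over M) (hk : ∃ z ∈ F₀, σ z = z ∧ z ≠ 0 ∧ z ≠ 1) {r : ℕ}
    (hr : r.Prime) (hro : Odd r) (hcard : Fintype.card F = Nat.card F₀ ^ r)
    {e d v : Fin 3 → F} (T : Trip H e d v) {a : F} (ha : σ a = -a) (haM : ut H.herm e a ∈ M)
    (haF : a ∉ F₀) : UtIn H.herm M e := by
  classical
  have hf := H.herm
  obtain ⟨s, hs, hs0, hss⟩ := H.skew
  obtain ⟨θ, hθ, hθσ⟩ := H.exists_theta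
  set k : Subfield F := F₀ ⊓ fixedField σ with hk_def
  set K := fixedField σ with hK
  let ι : k →+* K := Subfield.inclusion inf_le_right
  letI : Fintype k := Fintype.ofFinite _
  letI : Fintype K := Fintype.ofFinite _
  have hk3 : 3 ≤ Fintype.card k := by
    obtain ⟨z, hz, hzσ, hz0, hz1⟩ := hk
    refine le_trans ?_ ((Finset.univ : Finset k).card_le_univ.trans le_rfl)
    have h3 : ({0, 1, ⟨z, hz, hzσ⟩} : Finset k).card = 3 :=
      Finset.card_eq_three.2 ⟨0, 1, ⟨z, hz, hzσ⟩, zero_ne_one,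
        fun h => hz0 (congrArg Subtype.val h).symm, fun h => hz1 (congrArg Subtype.val h).symm, rfl⟩
    rw [← h3]
    exact Finset.card_le_univ _
  have hq : Fintype.card k ^ r = Fintype.card K := by
    have h1 := card_eq_sq (σ := σ) (u_inv hf) F₀ H.stable hθ hθσ
    have h2 := card_eq_sq (σ := σ) (u_inv hf) ⊤ (fun x _ => Subfield.mem_top _) (Subfield.mem_top θ) hθσ
    rw [top_inf_eq] at h2
    have h3 : Nat.card (⊤ : Subfield F) = Fintype.card F := by
      rw [← Nat.card_eq_fintype_card]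
      exact Nat.card_congr Subfield.topEquiv.toEquiv
    rw [h3, hcard, h1, ← pow_mul, mul_comm, pow_mul] at h2
    rw [← Nat.card_eq_fintype_card, ← Nat.card_eq_fintype_card]
    exact Nat.pow_left_injective two_ne_zero h2
  -- the group of the line
  let L : Matrix (Fin 2) (Fin 2) K → (Fin 3 → F) →ₗ[F] (Fin 3 → F) := fun g =>
    { toFun := fun x => ((g 0 0 : F) * f x d + s * (g 0 1 : F) * f x e) • e +
        (s⁻¹ * (g 1 0 : F) * f x d + (g 1 1 : F) * f x e) • d + f x v • v
      map_add' := fun x y => by simp only [u_add_left hf]; module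
      map_smul' := fun c x => by simp only [u_smul_left hf, RingHom.id_apply]; module }
  have hLap : ∀ g x, LinearMap.toMatrix' (L g) *ᵥ x =
      ((g 0 0 : F) * f x d + s * (g 0 1 : F) * f x e) • e +
        (s⁻¹ * (g 1 0 : F) * f x d + (g 1 1 : F) * f x e) • d + f x v • v := fun g x => by
    rw [LinearMap.toMatrix'_mulVec]; rfl
  let Φ : Matrix.SpecialLinearGroup (Fin 2) K →* Matrix (Fin 3) (Fin 3) F :=
    { toFun := fun g => LinearMap.toMatrix' (L g)
      map_one' := Matrix.ext_iff_mulVec.2 fun x => by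
        rw [hLap, one_mulVec]
        conv_rhs => rw [T.expand x]
        simp
      map_mul' := fun g h => Matrix.ext_iff_mulVec.2 fun x => by
        rw [← mulVec_mulVec, hLap, hLap, hLap]
        simp only [u_add_left hf, u_smul_left hf, T.ee, T.dd, T.ed, T.de, T.ve, T.vd, T.ev, T.dv,
          T.vv, Matrix.SpecialLinearGroup.coe_mul, Matrix.mul_apply, Fin.sum_univ_two]
        push_cast
        match_scalars <;> field_simp <;> ring }
  let φ : Matrix.SpecialLinearGroup (Fin 2) K →* GL (Fin 3) F := Φ.toHomUnits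
  have hφ : ∀ g x, ((φ g : GL (Fin 3) F) : Matrix (Fin 3) (Fin 3) F) *ᵥ x = LinearMap.toMatrix' (L g) *ᵥ x :=
    fun g x => rfl
  have hup : ∀ b : K, φ (upSL b) = ut hf e (s * b) := fun b => gl_ext fun x => by
    rw [hφ, hLap, ut_mulVec hf T.ee]
    conv_rhs => lhs; rw [T.expand x]
    simp [upSL_coe]
    module
  have hlo : ∀ b : K, φ (loSL b) = ut hf d (s⁻¹ * b) := fun b => gl_ext fun x => by
    rw [hφ, hLap, ut_mulVec hf T.dd]
    conv_rhs => lhs; rw [T.expand x]
    simp [loSL_coe]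
    module
  set M' := M.comap φ with hM'
  set P := M'.map (proj (F := K)) with hP
  have hle : pslSub ι 1 ≤ P := by
    rintro _ ⟨g, rfl⟩
    refine scHom_mem ι 1 (fun c => ?_) (fun c => ?_) g
    · refine ⟨upSL (((1 : Kˣ) : K) * ι c), ?_, rfl⟩
      show φ _ ∈ M
      rw [hup]
      have hc : ((((1 : Kˣ) : K) * ι c : K) : F) = (c : F) := by simp [ι]; rfl
      rw [hc]
      exact H.ut_rat hO T.he T.ee (F₀.mul_mem hs c.2.1)
        (by rw [map_mul, hss, mem_fixedField.1 c.2.2, neg_mul])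
    · refine ⟨loSL (ι c * (((1 : Kˣ) : K))⁻¹), ?_, rfl⟩
      show φ _ ∈ M
      rw [hlo]
      have hc : ((ι c * (((1 : Kˣ) : K))⁻¹ : K) : F) = (c : F) := by simp [ι]; rfl
      rw [hc]
      exact H.ut_rat hO T.hd T.dd (F₀.mul_mem (F₀.inv_mem hs) c.2.1)
        (by rw [map_mul, map_inv₀, hss, mem_fixedField.1 c.2.2, inv_neg, neg_mul])
  let b₀ : K := ⟨a / s, by rw [mem_fixedField, map_div₀, ha, hss, neg_div_neg_eq]⟩
  have hb₀ : proj (upSL b₀) ∈ P := by
    refine ⟨upSL b₀, ?_, rfl⟩
    show φ _ ∈ M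
    rw [hup]
    convert haM using 2
    show s * (a / s) = a
    field_simp
  have hnot : proj (upSL b₀) ∉ pslSub ι 1 := by
    rintro ⟨g, hg⟩
    have hmem : (b₀ : F) ∈ F₀ := by
      rcases proj_eq_iff.1 hg with h | h
      · have := congrArg (fun m : Matrix.SpecialLinearGroup (Fin 2) K => ((m : Matrix (Fin 2) (Fin 2) K) 0 1 : F)) h
        simp [upSL_coe, scHom_coe, scMat, ι] at this
        rw [this]
        exact (g.1 0 1).2.1
      · have := congrArg (fun m : Matrix.SpecialLinearGroup (Fin 2) K => ((m : Matrix (Fin 2) (Fin 2) K) 0 1 : F)) h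
        simp [upSL_coe, scHom_coe, scMat, ι] at this
        rw [this]
        exact F₀.neg_mem (g.1 0 1).2.1
    refine haF ?_
    have := F₀.mul_mem hs hmem
    rwa [show s * (b₀ : F) = a by show s * (a / s) = a; field_simp] at this
  have htop : P = ⊤ :=
    (isCoatom_pslSub ι hk3 hr hq (Or.inl hro)).2 P (lt_of_le_of_ne hle fun h => hnot (h ▸ hb₀))
  intro l hl
  let b : K := ⟨l / s, by rw [mem_fixedField, map_div₀, hl, hss, neg_div_neg_eq]⟩
  suffices upSL b ∈ M' by
    have h1 : φ (upSL b) ∈ M := this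
    rw [hup] at h1
    convert h1 using 2
    show l = s * (l / s)
    field_simp
  by_cases h2 : (2 : K) = 0
  · obtain ⟨m, hm, hme⟩ : proj (upSL b) ∈ P := htop ▸ Subgroup.mem_top _
    rcases proj_eq_iff.1 hme with h | h
    · rwa [h]
    · have : (-m : Matrix.SpecialLinearGroup (Fin 2) K) = m := Subtype.ext (by
        rw [Matrix.SpecialLinearGroup.coe_neg]
        ext i j
        rw [Matrix.neg_apply]
        set z : K := (m : Matrix (Fin 2) (Fin 2) K) i j
        have h2F : (2 : F) = 0 := congrArg Subtype.val h2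
        push_cast
        linear_combination -(z : F) * h2F)
      rwa [h, this]
  · haveI : NeZero (2 : K) := ⟨h2⟩
    obtain ⟨m, hm, hme⟩ : proj (upSL (b / 2)) ∈ P := htop ▸ Subgroup.mem_top _
    have hsq : upSL b = m * m := by
      rcases proj_eq_iff.1 hme with h | h
      · rw [← h, ← upSL_add, add_halves]
      · rw [← neg_mul_neg m m, ← h, ← upSL_add, add_halves]
    rw [hsq]
    exact M'.mul_mem hm hm

end Cfsg.Agent.H98.UThree.Sub
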