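import Cfsg.Agent.H98.UThree.Sub.Fixer
import Cfsg.Agent.H98.UThree.Sub.Param

/-!
With at least three fixed elements in the smaller field and no new transvection parameter, every
element stabilises the rational vectors up to a scalar.
-/

set_option autoImplicit false
set_option linter.unusedSectionVars false

namespace Cfsg.Agent.H98.UThree.Sub

open scoped MatrixGroups Matrix
open Matrix Cfsg
open Cfsg.Agent.H95 hiding exists_aniso_perp3 exists_isotropic
open Cfsg.Agent.Symplectic (HSub ut ut_mulVec ut_mem_iso ut_mem_sl conj_ut)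

variable {F : Type*} [Field F] [Fintype F]
  {σ : F ≃+* F} {f : (Fin 3 → F) → (Fin 3 → F) → F} {F₀ : Subfield F}
  {V : AddSubgroup (Fin 3 → F)} {M : Subgroup (GL (Fin 3) F)} {H : HSub σ f F₀ V}
  {q : ℕ} (hF : Fintype.card F = q ^ 2) (hσ : ∀ x, σ x = x ^ q)
  (hO : H.Over M) (hN : NoNew H M) (hk : ∃ z ∈ F₀, σ z = z ∧ z ≠ 0 ∧ z ≠ 1)
include hF hσ hO hN hk

/-- The centre of a transvection of `M` meets no irrational point of an orthogonal line. -/
lemma pole_rat {e d v : Fin 3 → F} (T : Trip H e d v) {e₀ : Fin 3 → F} (he₀ : H.Iso0 e₀)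
    {g : GL (Fin 3) F} (hg : g ∈ M)
    (hxe : f ((g : Matrix (Fin 3) (Fin 3) F) *ᵥ e₀) e ≠ 0) :
    f ((g : Matrix (Fin 3) (Fin 3) F) *ᵥ e₀) v
      / f ((g : Matrix (Fin 3) (Fin 3) F) *ᵥ e₀) e ∈ F₀ := by
  have hf := H.herm
  set x := (g : Matrix (Fin 3) (Fin 3) F) *ᵥ e₀
  have hxx : f x x = 0 := by rw [mem_isoGrp.1 (H.iso_of_mem hO hg), he₀.2.2]
  obtain ⟨s, hs, hs0, hss⟩ := H.skew
  by_contra hcon
  set τ := σ (-(f x v / f x e)) with hτd
  have hτ : τ ∉ F₀ := fun h => hcon (by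
    have h1 := F₀.neg_mem (H.stable _ h)
    rwa [hτd, u_inv hf, neg_neg] at h1)
  set w := v + τ • e with hwd
  have hwe : f w e = 0 := by simp [hwd, u_add_left hf, u_smul_left hf, T.ve, T.ee]
  have hxw : f x w = 0 := by
    rw [hwd, u_add_right hf, u_smul_right hf, hτd, u_inv hf, neg_mul, div_mul_cancel₀ _ hxe,
      add_neg_cancel]
  have hww : f w w = 1 := by
    simp [hwd, u_add_left hf, u_smul_left hf, u_add_right hf, u_smul_right hf, T.ve, T.ee, T.ev, T.vv]
  clear_value τ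
  obtain ⟨u, -, hu⟩ : ∃ u : F, True ∧ u + σ u = -(τ * σ τ) := by
    obtain ⟨l, -, hl⟩ := H.tr
    refine ⟨-(τ * σ τ) * l, trivial, ?_⟩
    rw [map_mul, map_neg, map_mul, u_inv hf]
    linear_combination -(τ * σ τ) * hl
  set d' := d - σ τ • v + u • e with hd'
  have P : Plane f e d' w := by
    refine ⟨T.ee, ?_, ?_, hwe, ?_, hww⟩ <;>
      simp only [hd', hwd, u_add_left hf, u_sub_left hf, u_smul_left hf, u_add_right hf,
        u_sub_right hf, u_smul_right hf, u_inv hf, T.ee, T.dd, T.ed, T.de, T.ve, T.vd, T.ev, T.dv,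
        T.vv]
    · linear_combination hu
    · ring
    · ring
  have hU : ∀ y ∈ Plane.fixVec M w,
      (∃ l : F, (y : Matrix (Fin 3) (Fin 3) F) *ᵥ e = l • e) → ∃ a, y = ut hf e a := by
    rintro y ⟨hy, hyw⟩ ⟨l, hl⟩
    obtain ⟨μ, ν, hyv, -, -, hν, hl1⟩ := fixer_rat hO hN T hy hl
    rw [hwd, mulVec_add, mulVec_smul, hyv, hl] at hyw
    have h2 := congrArg (fun z => f z v) hyw
    have h3 := congrArg (fun z => f z d) hyw
    simp [u_add_left hf, u_smul_left hf, T.vv, T.ev, T.vd, T.ed] at h2 h3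
    subst h2
    have hl0 : σ l * l ≠ 0 := mul_ne_zero ((map_ne_zero_iff σ σ.injective).2 fun h => T.e_ne (by
      rw [← inv_mulVec_mulVec y e, hl, h, zero_smul, mulVec_zero])) fun h => T.e_ne (by
      rw [← inv_mulVec_mulVec y e, hl, h, zero_smul, mulVec_zero])
    have hlF : σ l ∈ F₀ := by
      obtain ⟨μ, ν', hyv', -, hμ, -, -⟩ := fixer_rat hO hN T hy hl
      have := congrArg (fun z => f z v) (hyv'.symm.trans hyv)
      simp [u_add_left hf, u_smul_left hf, T.vv, T.ev] at this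
      rwa [this, mul_one] at hμ
    have hl' : l ∈ F₀ := by have := H.stable _ hlF; rwa [u_inv hf] at this
    have hl1' : l = 1 := by
      by_contra hne
      refine hτ ?_
      have h4 : τ = σ l * ν / (σ l * (1 - l)) := by
        have h1l : (1 : F) - l ≠ 0 := sub_ne_zero.2 (Ne.symm hne)
        rw [eq_div_iff (mul_ne_zero (left_ne_zero_of_mul hl0) h1l)]
        linear_combination -σ l * h3
      rw [h4]
      exact F₀.div_mem hν (F₀.mul_mem hlF (F₀.sub_mem F₀.one_mem hl'))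
    subst hl1'
    have hν0 : ν = 0 := by linear_combination h3
    obtain ⟨a, -, ha⟩ := T.eq_ut (H.iso_of_mem hO hy) (by rw [hl, one_smul])
      (by rw [hyv, hν0, one_smul, zero_smul, add_zero])
    exact ⟨a, ha⟩
  have h3 : 3 ≤ Nat.card {a : F // ut hf e a ∈ Plane.fixVec M w} := by
    obtain ⟨z, hz, hzσ, hz0, hz1⟩ := hk
    have hmem : ∀ r ∈ F₀, σ r = r → ut hf e (r * s) ∈ Plane.fixVec M w := fun r hr hrσ =>
      ⟨H.ut_rat hO T.he T.ee (F₀.mul_mem hr hs) (by rw [map_mul, hrσ, hss]; ring),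
        by rw [ut_mulVec hf T.ee, hwe, mul_zero, zero_smul, add_zero]⟩
    classical
    set R : Finset F := {0, 1, z}
    have hR : R.card = 3 := Finset.card_eq_three.2
      ⟨0, 1, z, zero_ne_one, Ne.symm hz0, Ne.symm hz1, rfl⟩
    have hsub : ∀ r ∈ R, r ∈ F₀ ∧ σ r = r := by
      intro r hr
      simp only [R, Finset.mem_insert, Finset.mem_singleton] at hr
      rcases hr with rfl | rfl | rfl
      exacts [⟨F₀.zero_mem, map_zero σ⟩, ⟨F₀.one_mem, map_one σ⟩, ⟨hz, hzσ⟩]
    have := Nat.card_le_card_of_injective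
      (fun r : R => (⟨r.1 * s, hmem r.1 (hsub r.1 r.2).1 (hsub r.1 r.2).2⟩ :
        {a : F // ut hf e a ∈ Plane.fixVec M w}))
      fun r r' h => Subtype.ext (mul_right_cancel₀ hs0 (congrArg Subtype.val h))
    rwa [Nat.card_eq_finsetCard, hR] at this
  have hmem : ut hf x s ∈ Plane.fixVec M w := by
    refine ⟨?_, by rw [ut_mulVec hf hxx, u_symm_zero hf hxw, mul_zero, zero_smul, add_zero]⟩
    rw [← conj_ut hf (H.iso_of_mem hO hg) he₀.2.2]
    exact M.mul_mem (M.mul_mem hg (H.ut_rat hO he₀.1 he₀.2.2 hs hss)) (M.inv_mem hg)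
  obtain ⟨l, hl⟩ := P.fix_of_three hf hO.1 hF hσ hU h3 hmem
  have h4 := congrArg (fun z => f z e) hl
  rw [ut_mulVec hf hxx] at h4
  simp only [u_add_left hf, u_smul_left hf, T.ee, mul_zero, zero_add] at h4
  rcases mul_eq_zero.1 h4 with h | h
  · rcases mul_eq_zero.1 h with h | h
    · exact hs0 h
    · exact hxe (u_symm_zero hf h)
  · exact hxe h

/-- The images of rational points are rational. -/
lemma point_rat {e₀ : Fin 3 → F} (he₀ : H.Iso0 e₀) {g : GL (Fin 3) F} (hg : g ∈ M) :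
    ∃ c : F, c ≠ 0 ∧ c • ((g : Matrix (Fin 3) (Fin 3) F) *ᵥ e₀) ∈ V := by
  have hf := H.herm
  set x := (g : Matrix (Fin 3) (Fin 3) F) *ᵥ e₀ with hx
  have hxx : f x x = 0 := by rw [hx, mem_isoGrp.1 (H.iso_of_mem hO hg), he₀.2.2]
  have hx0 : x ≠ 0 := fun h => he₀.2.1 (by rw [← inv_mulVec_mulVec g e₀, ← hx, h, mulVec_zero])
  obtain ⟨e, d, v, T, hxe⟩ : ∃ e d v, Trip H e d v ∧ f x e ≠ 0 := by
    obtain ⟨e, d, v, T⟩ := exists_trip' H
    by_cases h1 : f x e = 0
    · by_cases h2 : f x d = 0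
      · exfalso
        refine hx0 ?_
        have h3 : f x v = 0 := by
          have := hxx
          rw [T.expand x, h1, h2, zero_smul, zero_smul, zero_add, zero_add] at this
          simpa [u_smul_left hf, u_smul_right hf, T.vv] using this
        rw [T.expand x, h1, h2, h3]
        simp
      · exact ⟨d, e, v, T.symm, h2⟩
    · exact ⟨e, d, v, T, h1⟩
  -- coordinates normalised at `e`
  have main : ∀ {e d v : Fin 3 → F}, Trip H e d v → f x e ≠ 0 → f x v ≠ 0 →
      (f x e)⁻¹ • x ∈ V := by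
    intro e d v T hxe hxv
    have hxd : f x d ≠ 0 := fun h => by
      refine hxv ?_
      have := hxx
      rw [T.expand x, h] at this
      simpa [u_add_left hf, u_add_right hf, u_smul_left hf, u_smul_right hf, T.vv, T.dd, T.dv,
        T.vd] using this
    have r1 := pole_rat hF hσ hO hN hk T he₀ hg hxe
    have r2 := pole_rat hF hσ hO hN hk T.symm he₀ hg hxd
    have r3 : f x d / f x e ∈ F₀ := by
      have := F₀.div_mem r1 r2
      rwa [div_div_div_comm, div_self hxv, one_div_div] at this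
    rw [T.mem_iff]
    simp only [u_smul_left hf, inv_mul_eq_div, div_self hxe]
    exact ⟨r3, F₀.one_mem, r1⟩
  refine ⟨(f x e)⁻¹, inv_ne_zero hxe, ?_⟩
  by_cases hxv : f x v = 0
  · obtain ⟨t, ht, -, ht1, -⟩ := T.third
    have T' : Trip H e (d - v + t • e) (v + e) := by
      refine ⟨T.he, V.add_mem (V.sub_mem T.hd T.hv) (H.smul t ht e T.he), V.add_mem T.hv T.he,
        T.ee, ?_, ?_, ?_, ?_, ?_⟩ <;>
        simp only [u_add_left hf, u_sub_left hf, u_smul_left hf, u_add_right hf,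
          u_sub_right hf, u_smul_right hf, T.ee, T.dd, T.ed, T.de, T.ve, T.vd, T.ev, T.dv, T.vv]
      · linear_combination ht1
      all_goals ring
    exact main T' hxe (by rwa [u_add_right hf, hxv, zero_add])
  · exact main T hxe hxv

/-- Every element stabilises the rational vectors up to a scalar. -/
theorem rat_of_big {g : GL (Fin 3) F} (hg : g ∈ M) : g ∈ ratGrp H := by
  have hf := H.herm
  obtain ⟨e, d, v, T⟩ := exists_trip' H
  obtain ⟨t, ht, ht0, -, hz⟩ := T.third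
  have hi := mem_isoGrp.1 (H.iso_of_mem hO hg)
  obtain ⟨c₁, h₁, hA⟩ := point_rat hF hσ hO hN hk T.iso0 hg
  obtain ⟨c₂, h₂, hB⟩ := point_rat hF hσ hO hN hk T.symm.iso0 hg
  obtain ⟨c₃, h₃, hC⟩ := point_rat hF hσ hO hN hk hz hg
  have key : ∀ {c c' : F} {x y : Fin 3 → F}, c • ((g : Matrix (Fin 3) (Fin 3) F) *ᵥ x) ∈ V →
      c' • ((g : Matrix (Fin 3) (Fin 3) F) *ᵥ y) ∈ V → f x y ≠ 0 → f x y ∈ F₀ → c * σ c' ∈ F₀ := by
    intro c c' x y hx hy h0 hF0
    have := H.rat _ hx _ hy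
    rw [u_smul_left hf, u_smul_right hf, hi, ← mul_assoc] at this
    simpa [h0] using F₀.div_mem this hF0
  have k12 := key hA hB (by rw [T.ed]; exact one_ne_zero) (by rw [T.ed]; exact F₀.one_mem)
  have hez : f e (v + t • e + d) = 1 := by
    simp [u_add_right hf, u_smul_right hf, T.ev, T.ee, T.ed]
  have hzd : f (v + t • e + d) d = t := by
    simp [u_add_left hf, u_smul_left hf, T.vd, T.ed, T.dd]
  have k13 := key hA hC (by rw [hez]; exact one_ne_zero) (by rw [hez]; exact F₀.one_mem)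
  have k32 := key hC hB (by rw [hzd]; exact ht0) (by rw [hzd]; exact ht)
  have hσ0 : ∀ {c : F}, c ≠ 0 → σ c ≠ 0 := fun h => (map_ne_zero_iff σ σ.injective).2 h
  have r31 : c₃ / c₁ ∈ F₀ := by
    have := F₀.div_mem k32 k12
    rwa [mul_div_mul_right _ _ (hσ0 h₂)] at this
  have r32 : c₃ / c₂ ∈ F₀ := by
    have h := F₀.div_mem k13 k12
    rw [mul_div_mul_left _ _ h₁, ← map_div₀] at h
    have := H.stable _ h
    rwa [u_inv hf] at this
  have hcd : c₃ • ((g : Matrix (Fin 3) (Fin 3) F) *ᵥ d) ∈ V := by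
    have := H.smul _ r32 _ hB
    rwa [smul_smul, div_mul_cancel₀ _ h₂] at this
  have hce : c₃ • ((g : Matrix (Fin 3) (Fin 3) F) *ᵥ e) ∈ V := by
    have := H.smul _ r31 _ hA
    rwa [smul_smul, div_mul_cancel₀ _ h₁] at this
  refine T.mem_ratGrp_of h₃ hce hcd ?_
  have := V.sub_mem (V.sub_mem hC (H.smul t ht _ hce)) hcd
  rw [mulVec_add, mulVec_add, mulVec_smul] at this
  convert this using 1
  module

end Cfsg.Agent.H98.UThree.Sub
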