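import Mathlib

/-!
Counting fixed points in a group in which the stabiliser of a point fixes only that point.
-/

set_option autoImplicit false
set_option linter.style.haveILetI false
set_option linter.unusedSectionVars false

namespace Cfsg.Agent.H98.UThree.Sub

open MulAction Finset

variable {G : Type*} [Group G] [Finite G] {Ω : Type*} [MulAction G Ω]

/-- Every non-trivial element fixes one or two points and involutions fix one. -/
structure TwoFix (G Ω : Type*) [Group G] [MulAction G Ω] : Prop where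
  fix : ∀ g : G, g ≠ 1 → ∃ x : Ω, g • x = x
  two : ∀ g : G, g ≠ 1 → ∀ x y z : Ω, g • x = x → g • y = y → g • z = z → x = y ∨ x = z ∨ y = z
  inv : ∀ g : G, g ≠ 1 → g * g = 1 → ∀ x y : Ω, g • x = x → g • y = y → x = y

open scoped Classical in
/-- The fixers of `x` other than the identity. -/
noncomputable def fixers [Fintype G] (x : Ω) : Finset G :=
  univ.filter fun g => g • x = x ∧ g ≠ 1

lemma mem_fixers [Fintype G] {x : Ω} {g : G} : g ∈ fixers x ↔ g • x = x ∧ g ≠ 1 := by
  classical simp [fixers]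

lemma card_fixers [Fintype G] (x : Ω) :
    (fixers x : Finset G).card + 1 = Nat.card (stabilizer G x) := by
  classical
  have h2 : Nat.card (stabilizer G x) = (univ.filter fun g : G => g • x = x).card := by
    rw [Nat.card_eq_fintype_card, Fintype.card_subtype]
    exact congrArg Finset.card (Finset.filter_congr fun g _ => mem_stabilizer_iff)
  have h1 : (univ.filter fun g : G => g • x = x) = insert 1 (fixers x) := by
    ext g
    simp only [Finset.mem_insert, mem_fixers, Finset.mem_filter, Finset.mem_univ, true_and]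
    refine ⟨fun h => (em (g = 1)).imp_right fun h' => ⟨h, h'⟩, ?_⟩
    rintro (rfl | h)
    exacts [one_smul _ x, h.1]
  rw [h2, h1, Finset.card_insert_of_notMem (by simp [mem_fixers])]

lemma card_orbit_image [Fintype G] [DecidableEq Ω] (x : Ω) :
    ((univ : Finset G).image fun g => g • x).card * Nat.card (stabilizer G x) = Fintype.card G := by
  classical
  haveI : Finite (orbit G x) := (Set.finite_range _).to_subtype
  haveI : Fintype (orbit G x) := Fintype.ofFinite _
  haveI : Fintype (stabilizer G x) := Fintype.ofFinite _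
  rw [Nat.card_eq_fintype_card, ← card_orbit_mul_card_stabilizer_eq_card_group G x]
  congr 1
  rw [← Set.toFinset_card]
  congr 1
  ext y
  simp [mem_orbit_iff]

lemma card_stab_smul (h : G) (x : Ω) :
    Nat.card (stabilizer G (h • x)) = Nat.card (stabilizer G x) := by
  rw [stabilizer_smul_eq_stabilizer_map_conj]
  exact (Nat.card_congr (Subgroup.equivMapOfInjective _ _ (MulEquiv.injective _)).toEquiv).symm

variable (hT : TwoFix G Ω) {a : Ω} (hA : ∀ g : G, g ≠ 1 → g • a = a → ∀ x : Ω, g • x = x → x = a)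
include hA

/-- An element fixing a point of the orbit of `a` fixes nothing else. -/
lemma unique_fix {g h : G} (hg : g ≠ 1) (hga : g • (h • a) = h • a) {x : Ω} (hx : g • x = x) :
    x = h • a := by
  have h1 : (h⁻¹ * g * h) • a = a := by rw [mul_smul, mul_smul, hga, inv_smul_smul]
  have h2 : (h⁻¹ * g * h) • (h⁻¹ • x) = h⁻¹ • x := by
    rw [mul_smul, mul_smul, smul_inv_smul, hx]
  have h3 := hA (h⁻¹ * g * h) (fun e => hg (by
    calc g = h * (h⁻¹ * g * h) * h⁻¹ := by group
      _ = 1 := by rw [e]; group)) h1 _ h2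
  rw [← h3, smul_inv_smul]

/-- The elements outside the fixers of the orbit of `a`. -/
lemma exists_rest [Fintype G] [DecidableEq Ω] [DecidableEq G] : ∃ R : Finset G,
    R.card + 1 = ((univ : Finset G).image fun g => g • a).card ∧
    ∀ g : G, g ∈ R ↔ g ≠ 1 ∧ ∀ h : G, g • (h • a) ≠ h • a := by
  classical
  set O : Finset Ω := (univ : Finset G).image fun g => g • a with hO
  have hdis : (O : Set Ω).PairwiseDisjoint (fixers : Ω → Finset G) := by
    intro x hx y hy hxy
    rw [Function.onFun, Finset.disjoint_left]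
    intro g hgx hgy
    simp only [hO, Finset.coe_image, Finset.coe_univ, Set.image_univ, Set.mem_range] at hx hy
    obtain ⟨h, rfl⟩ := hx
    exact hxy (unique_fix hA (mem_fixers.1 hgx).2 (mem_fixers.1 hgx).1 (mem_fixers.1 hgy).1).symm
  set S : Finset G := insert 1 (O.biUnion fixers) with hS
  refine ⟨Sᶜ, ?_, fun g => ?_⟩
  · have h1 : S.card + O.card = Fintype.card G + 1 := by
      have h2 : ∑ x ∈ O, ((fixers x : Finset G).card + 1) = Fintype.card G := by
        rw [Finset.sum_congr rfl fun x hx => ?_, Finset.sum_const, smul_eq_mul, ← card_orbit_image a]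
        obtain ⟨h, -, rfl⟩ := Finset.mem_image.1 hx
        rw [card_fixers, card_stab_smul]
      rw [hS, Finset.card_insert_of_notMem (by simp [mem_fixers]), Finset.card_biUnion hdis]
      rw [Finset.sum_add_distrib, Finset.sum_const, smul_eq_mul, mul_one] at h2
      omega
    rw [Finset.card_compl]
    have := S.card_le_univ
    omega
  · simp only [Finset.mem_compl, hS, Finset.mem_insert, Finset.mem_biUnion, hO, Finset.mem_image,
      Finset.mem_univ, true_and, mem_fixers, not_or, not_exists, not_and]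
    refine ⟨fun ⟨h1, h2⟩ => ⟨h1, fun h e => h2 (h • a) ⟨h, rfl⟩ e h1⟩, fun ⟨h1, h2⟩ => ⟨h1, ?_⟩⟩
    rintro _ ⟨h, rfl⟩ e -
    exact h2 h e

include hT

/-- The contribution of an orbit with non-trivial stabiliser. -/
lemma orbit_bound [Fintype G] [DecidableEq Ω] [DecidableEq G] {R : Finset G}
    (hR : ∀ g : G, g ∈ R ↔ g ≠ 1 ∧ ∀ h : G, g • (h • a) ≠ h • a)
    {Z : Finset Ω} (hZ : ∀ z ∈ Z, ∀ h : G, z ≠ h • a) :
    ∑ z ∈ Z, (fixers z : Finset G).card ≤ 2 * R.card ∧
      ((∀ z ∈ Z, ∀ g ∈ (fixers z : Finset G), g * g = 1) →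
        ∑ z ∈ Z, (fixers z : Finset G).card ≤ R.card) := by
  have hin : ∀ z ∈ Z, fixers z ⊆ R := by
    intro z hz g hg
    obtain ⟨hgz, hg1⟩ := mem_fixers.1 hg
    exact (hR g).2 ⟨hg1, fun h e => hZ z hz h (unique_fix hA hg1 e hgz)⟩
  have hswap : ∑ z ∈ Z, (fixers z : Finset G).card
      = ∑ g ∈ R, (Z.filter fun z => g ∈ (fixers z : Finset G)).card := by
    rw [Finset.sum_congr rfl fun z hz => (?_ : (fixers z : Finset G).card
      = (R.filter fun g => g ∈ (fixers z : Finset G)).card)]
    · simp only [Finset.card_filter]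
      exact Finset.sum_comm
    · rw [Finset.filter_mem_eq_inter, Finset.inter_eq_right.2 (hin z hz)]
  rw [hswap]
  refine ⟨?_, fun hsq => ?_⟩
  · rw [mul_comm 2, ← smul_eq_mul, ← Finset.sum_const]
    refine Finset.sum_le_sum fun g hg => ?_
    by_contra hlt
    obtain ⟨u, v, w, hu, hv, hw, huv, huw, hvw⟩ := Finset.two_lt_card_iff.1 (not_le.1 hlt)
    simp only [Finset.mem_filter, mem_fixers] at hu hv hw
    rcases hT.two g ((hR g).1 hg).1 u v w hu.2.1 hv.2.1 hw.2.1 with e | e | e
    exacts [huv e, huw e, hvw e]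
  · rw [Finset.card_eq_sum_ones R]
    refine Finset.sum_le_sum fun g hg => Finset.card_le_one.2 fun u hu v hv => ?_
    simp only [Finset.mem_filter] at hu hv
    obtain ⟨hgu, hg1⟩ := mem_fixers.1 hu.2
    exact hT.inv g hg1 (hsq u hu.1 g hu.2) u v hgu (mem_fixers.1 hv.2).1

/-- An orbit outside that of `a` is large. -/
lemma orbit_big [Fintype G] [DecidableEq Ω] [DecidableEq G] {R : Finset G}
    (hR : ∀ g : G, g ∈ R ↔ g ≠ 1 ∧ ∀ h : G, g • (h • a) ≠ h • a)
    (hn : R.card + 1 = ((univ : Finset G).image fun g => g • a).card)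
    (hP : 2 ≤ Nat.card (stabilizer G a)) {z : Ω} (hz : ∀ h : G, z ≠ h • a)
    {g : G} (hg1 : g ≠ 1) (hgz : g • z = z) :
    3 ≤ Nat.card (stabilizer G z) := by
  by_contra h3
  set f := Nat.card (stabilizer G z)
  have hf := card_fixers (G := G) z
  have hpos : 0 < (fixers z : Finset G).card := Finset.card_pos.2 ⟨g, mem_fixers.2 ⟨hgz, hg1⟩⟩
  have hf2 : f = 2 := by omega
  set Z := (univ : Finset G).image fun g => g • z with hZd
  have hZ : ∀ y ∈ Z, ∀ h : G, y ≠ h • a := by
    intro y hy h e
    obtain ⟨k, -, rfl⟩ := Finset.mem_image.1 hy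
    exact hz (k⁻¹ * h) (by rw [mul_smul, ← e, inv_smul_smul])
  have hcard : ∀ y ∈ Z, Nat.card (stabilizer G y) = 2 := by
    intro y hy
    obtain ⟨k, -, rfl⟩ := Finset.mem_image.1 hy
    rw [card_stab_smul]; exact hf2
  have h1 := (orbit_bound hT hA hR hZ).2 (fun y hy k hk => by
    obtain ⟨hky, hk1⟩ := mem_fixers.1 hk
    have h2 := pow_card_eq_one' (G := stabilizer G y) (x := ⟨k, hky⟩)
    rw [hcard y hy, pow_two] at h2
    exact congrArg Subtype.val h2)
  rw [Finset.sum_congr rfl fun y hy => (by have := card_fixers (G := G) y; rw [hcard y hy] at this; omega :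
    (fixers y : Finset G).card = 1), Finset.sum_const, smul_eq_mul, mul_one] at h1
  have h2 := card_orbit_image (G := G) z
  have h3 := card_orbit_image (G := G) a
  rw [← hZd, show Nat.card (stabilizer G z) = 2 from hf2] at h2
  nlinarith

/-- A point stabiliser of order at least three fixing one point only is everything. -/
theorem stab_eq_top (hP : 3 ≤ Nat.card (stabilizer G a)) : stabilizer G a = ⊤ := by
  classical
  letI := Fintype.ofFinite G
  obtain ⟨R, hn, hR⟩ := exists_rest hA
  rcases R.eq_empty_or_nonempty with hR0 | ⟨g, hg⟩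
  · rw [hR0, Finset.card_empty, zero_add] at hn
    have h := card_orbit_image (G := G) a
    rw [← hn, one_mul, ← Nat.card_eq_fintype_card] at h
    exact Subgroup.eq_top_of_card_eq _ h
  exfalso
  obtain ⟨hg1, hga⟩ := (hR g).1 hg
  obtain ⟨z, hgz⟩ := hT.fix g hg1
  have hz : ∀ h : G, z ≠ h • a := fun h e => hga h (e ▸ hgz)
  have h3 := orbit_big hT hA hR hn (by omega) hz hg1 hgz
  set Z := (univ : Finset G).image fun g => g • z with hZd
  have hZ : ∀ y ∈ Z, ∀ h : G, y ≠ h • a := by
    intro y hy h e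
    obtain ⟨k, -, rfl⟩ := Finset.mem_image.1 hy
    exact hz (k⁻¹ * h) (by rw [mul_smul, ← e, inv_smul_smul])
  have h1 := (orbit_bound hT hA hR hZ).1
  have h2 := card_orbit_image (G := G) z
  have h4 := card_orbit_image (G := G) a
  rw [Finset.sum_congr rfl fun y hy => (by
    obtain ⟨k, -, rfl⟩ := Finset.mem_image.1 hy
    have := card_fixers (G := G) (k • z); rw [card_stab_smul] at this; omega :
    (fixers y : Finset G).card = Nat.card (stabilizer G z) - 1), Finset.sum_const, smul_eq_mul] at h1
  rw [← hZd] at h2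
  set f := Nat.card (stabilizer G z)
  set n := ((univ : Finset G).image fun g => g • a).card
  have h5 : 2 * f ≤ 3 * (f - 1) := by omega
  have h6 := Nat.mul_le_mul_left Z.card h5
  have h7 := Nat.mul_le_mul_left n hP
  nlinarith

/-- A point stabiliser of order two: the group preserves any pair fixed by a non-trivial element. -/
theorem pair_invariant (hP : Nat.card (stabilizer G a) = 2) {u u' : Ω} (huu : u ≠ u')
    (hstab : ∀ g : G, g • u = u ↔ g • u' = u') {ρ : G} (hρ1 : ρ ≠ 1) (hρ : ρ • u = u) (g : G) :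
    g • u = u ∨ g • u = u' := by
  classical
  letI := Fintype.ofFinite G
  obtain ⟨R, hn, hR⟩ := exists_rest hA
  have hu : ∀ h : G, u ≠ h • a := fun h e => huu (by
    rw [e] at hρ
    rw [e, unique_fix hA hρ1 hρ ((hstab ρ).1 (e ▸ hρ))])
  have hu' : ∀ h : G, u' ≠ h • a := fun h e => huu (by
    have h1 : ρ • u' = u' := (hstab ρ).1 hρ
    rw [e] at h1
    rw [e, unique_fix hA hρ1 h1 hρ])
  set Z := (univ : Finset G).image fun g => g • u with hZd
  set Z' := (univ : Finset G).image fun g => g • u' with hZd'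
  have hstabeq : stabilizer G u = stabilizer G u' := Subgroup.ext fun k => by
    simp only [mem_stabilizer_iff, hstab k]
  set f := Nat.card (stabilizer G u) with hf
  have hf' : Nat.card (stabilizer G u') = f := by rw [hf, hstabeq]
  have hpos := orbit_big hT hA hR hn hP.ge hu hρ1 hρ
  rw [← hf] at hpos
  have hsum : ∀ (W : Finset Ω) (w : Ω), Nat.card (stabilizer G w) = f → (∀ y ∈ W, ∃ k : G, y = k • w) →
      ∑ y ∈ W, (fixers y : Finset G).card = W.card * (f - 1) := by
    intro W w hw hW
    rw [← smul_eq_mul, ← Finset.sum_const]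
    refine Finset.sum_congr rfl fun y hy => ?_
    obtain ⟨k, rfl⟩ := hW y hy
    have := card_fixers (G := G) (k • w)
    rw [card_stab_smul, hw] at this
    omega
  have hmemZ : ∀ y ∈ Z, ∃ k : G, y = k • u := fun y hy => by
    obtain ⟨k, -, rfl⟩ := Finset.mem_image.1 hy; exact ⟨k, rfl⟩
  have hmemZ' : ∀ y ∈ Z', ∃ k : G, y = k • u' := fun y hy => by
    obtain ⟨k, -, rfl⟩ := Finset.mem_image.1 hy; exact ⟨k, rfl⟩
  have hm := card_orbit_image (G := G) u
  have hm' := card_orbit_image (G := G) u'
  have hN := card_orbit_image (G := G) a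
  rw [← hZd, ← hf] at hm
  rw [← hZd', hf'] at hm'
  rw [hP] at hN
  set n := ((univ : Finset G).image fun g => g • a).card
  have hsame : u' ∈ Z := by
    by_contra hcon
    have hdis : Disjoint Z Z' := by
      rw [Finset.disjoint_left]
      intro y hy hy'
      obtain ⟨k, rfl⟩ := hmemZ y hy
      obtain ⟨k', hk'⟩ := hmemZ' _ hy'
      exact hcon (Finset.mem_image.2 ⟨k'⁻¹ * k, Finset.mem_univ _, by
        rw [mul_smul, hk', inv_smul_smul]⟩)
    have hout : ∀ y ∈ Z ∪ Z', ∀ h : G, y ≠ h • a := by
      intro y hy h e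
      rcases Finset.mem_union.1 hy with hy | hy
      · obtain ⟨k, rfl⟩ := hmemZ y hy
        exact hu (k⁻¹ * h) (by rw [mul_smul, ← e, inv_smul_smul])
      · obtain ⟨k, rfl⟩ := hmemZ' y hy
        exact hu' (k⁻¹ * h) (by rw [mul_smul, ← e, inv_smul_smul])
    have h1 := (orbit_bound hT hA hR hout).1
    rw [Finset.sum_union hdis, hsum Z u rfl hmemZ, hsum Z' u' hf' hmemZ'] at h1
    have h5 : 2 * f ≤ 3 * (f - 1) := by omega
    have h6 := Nat.mul_le_mul_left Z.card h5
    have h7 := Nat.mul_le_mul_left Z'.card h5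
    nlinarith
  -- every element of `R` fixes exactly two points of the orbit of `u`
  have houtZ : ∀ y ∈ Z, ∀ h : G, y ≠ h • a := by
    intro y hy h e
    obtain ⟨k, rfl⟩ := hmemZ y hy
    exact hu (k⁻¹ * h) (by rw [mul_smul, ← e, inv_smul_smul])
  have hall : ∀ k ∈ R, ∃ h : G, k • (h • u) = h • u := by
    intro k hk
    obtain ⟨hk1, hka⟩ := (hR k).1 hk
    obtain ⟨z, hkz⟩ := hT.fix k hk1
    by_contra hcon
    have hz : ∀ h : G, z ≠ h • a := fun h e => hka h (e ▸ hkz)
    have hzu : ∀ h : G, z ≠ h • u := fun h e => hcon ⟨h, e ▸ hkz⟩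
    have hf3 := orbit_big hT hA hR hn hP.ge hz hk1 hkz
    set W := (univ : Finset G).image fun g => g • z with hWd
    have hdis : Disjoint Z W := by
      rw [Finset.disjoint_left]
      intro y hy hy'
      obtain ⟨h, rfl⟩ := hmemZ y hy
      obtain ⟨h', -, hh'⟩ := Finset.mem_image.1 hy'
      exact hzu (h'⁻¹ * h) (by rw [mul_smul, ← hh', inv_smul_smul])
    have hout : ∀ y ∈ Z ∪ W, ∀ h : G, y ≠ h • a := by
      intro y hy h e
      rcases Finset.mem_union.1 hy with hy | hy
      · exact houtZ y hy h e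
      · obtain ⟨h', -, rfl⟩ := Finset.mem_image.1 hy
        exact hz (h'⁻¹ * h) (by rw [mul_smul, ← e, inv_smul_smul])
    have h1 := (orbit_bound hT hA hR hout).1
    rw [Finset.sum_union hdis, hsum Z u rfl hmemZ, Finset.sum_congr rfl fun y hy => (by
      obtain ⟨h', -, rfl⟩ := Finset.mem_image.1 hy
      have := card_fixers (G := G) (h' • z); rw [card_stab_smul] at this; omega :
      (fixers y : Finset G).card = Nat.card (stabilizer G z) - 1), Finset.sum_const, smul_eq_mul] at h1
    have hw := card_orbit_image (G := G) z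
    rw [← hWd] at hw
    have h5 : 2 * f ≤ 3 * (f - 1) := by omega
    have h6 := Nat.mul_le_mul_left Z.card h5
    have h7 : 2 * Nat.card (stabilizer G z) ≤ 3 * (Nat.card (stabilizer G z) - 1) := by omega
    have h8 := Nat.mul_le_mul_left W.card h7
    nlinarith
  have hge : 2 * R.card ≤ ∑ y ∈ Z, (fixers y : Finset G).card := by
    have h1 : ∑ y ∈ Z, (fixers y : Finset G).card
        ≥ ∑ y ∈ Z, (R.filter fun k => k ∈ (fixers y : Finset G)).card :=
      Finset.sum_le_sum fun y _ => Finset.card_le_card fun k hk => (Finset.mem_filter.1 hk).2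
    refine le_trans ?_ h1
    simp only [Finset.card_filter]
    rw [Finset.sum_comm, mul_comm, ← smul_eq_mul, ← Finset.sum_const]
    refine Finset.sum_le_sum fun k hk => ?_
    rw [← Finset.card_filter]
    obtain ⟨h, hh⟩ := hall k hk
    have hk1 := ((hR k).1 hk).1
    have hh' : k • (h • u') = h • u' := by
      have e : ∀ c : Ω, k • (h • c) = h • c ↔ (h⁻¹ * k * h) • c = c := fun c => by
        rw [mul_smul, mul_smul, inv_smul_eq_iff]
      rw [e, ← hstab, ← e]
      exact hh
    obtain ⟨k', -, hk'⟩ := Finset.mem_image.1 hsame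
    refine Finset.one_lt_card.2 ⟨h • u, Finset.mem_filter.2 ⟨Finset.mem_image.2 ⟨h, Finset.mem_univ _, rfl⟩,
      mem_fixers.2 ⟨hh, hk1⟩⟩, h • u', Finset.mem_filter.2 ⟨Finset.mem_image.2 ⟨h * k', Finset.mem_univ _, by
        rw [mul_smul, hk']⟩, mem_fixers.2 ⟨hh', hk1⟩⟩, fun e => huu ?_⟩
    simpa using congrArg (fun y => h⁻¹ • y) e
  have hle := (orbit_bound hT hA hR houtZ).1
  rw [hsum Z u rfl hmemZ] at hge hle
  have hZ2 : Z.card = 2 := by
    have h1 : Z.card * (f - 1) + Z.card = Z.card * f := by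
      conv_rhs => rw [show f = f - 1 + 1 by omega, mul_add, mul_one]
    omega
  by_contra hg
  push Not at hg
  have hsub : ({u, u', g • u} : Finset Ω) ⊆ Z := by
    intro y hy
    simp only [Finset.mem_insert, Finset.mem_singleton] at hy
    rcases hy with rfl | rfl | rfl
    exacts [Finset.mem_image.2 ⟨1, Finset.mem_univ _, one_smul _ _⟩, hsame,
      Finset.mem_image.2 ⟨g, Finset.mem_univ _, rfl⟩]
  have := Finset.card_le_card hsub
  rw [Finset.card_insert_of_notMem (by simp [huu, Ne.symm hg.1]),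
    Finset.card_insert_of_notMem (by simp [Ne.symm hg.2]), Finset.card_singleton] at this
  omega

end Cfsg.Agent.H98.UThree.Sub
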