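import Cfsg.Agent.H98.UThree.Sub.Line

/-!
Elements fixing a rational point, and the stabiliser of the rational vectors up to scalars.
-/

set_option autoImplicit false
set_option linter.unusedSectionVars false

namespace Cfsg.Agent.H98.UThree.Sub

open scoped MatrixGroups Matrix
open Matrix Cfsg
open Cfsg.Agent.H95 hiding exists_aniso_perp3 exists_isotropic
open Cfsg.Agent.Symplectic (HSub ut ut_mulVec ut_mem_iso ut_mem_sl)

variable {F : Type*} [Field F] [Fintype F]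
  {σ : F ≃+* F} {f : (Fin 3 → F) → (Fin 3 → F) → F} {F₀ : Subfield F}
  {V : AddSubgroup (Fin 3 → F)} {M : Subgroup (GL (Fin 3) F)} {H : HSub σ f F₀ V}

/-- The determinant read in a basis. -/
lemma det_cols {g : Matrix (Fin 3) (Fin 3) F} {b : Fin 3 → Fin 3 → F} {B : Matrix (Fin 3) (Fin 3) F}
    (hind : ∀ c : Fin 3 → F, c 0 • b 0 + c 1 • b 1 + c 2 • b 2 = 0 → c = 0)
    (h : ∀ j, g *ᵥ b j = B 0 j • b 0 + B 1 j • b 1 + B 2 j • b 2) : g.det = B.det := by
  set Q : Matrix (Fin 3) (Fin 3) F := Matrix.of fun i j => b j i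
  have hQ : ∀ x : Fin 3 → F, Q *ᵥ x = x 0 • b 0 + x 1 • b 1 + x 2 • b 2 := fun x => by
    funext i
    simp [Q, mulVec, dotProduct, Fin.sum_univ_three]
    ring
  have hmul : g * Q = Q * B := Matrix.ext_iff_mulVec.2 fun x => by
    rw [← mulVec_mulVec, ← mulVec_mulVec, hQ, hQ, mulVec_add, mulVec_add, mulVec_smul, mulVec_smul,
      mulVec_smul, h, h, h]
    simp only [mulVec, dotProduct, Fin.sum_univ_three]
    module
  have hQ0 : Q.det ≠ 0 := by
    intro h0
    obtain ⟨x, hx0, hx⟩ := Matrix.exists_mulVec_eq_zero_iff.2 h0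
    exact hx0 (hind x (hQ x ▸ hx))
  have := congrArg Matrix.det hmul
  rw [det_mul, det_mul, mul_comm] at this
  exact mul_left_cancel₀ hQ0 this

namespace Trip

variable {e d v : Fin 3 → F} (T : Trip H e d v)
include T

lemma plane : Plane f e d v := ⟨T.ee, T.dd, T.ed, T.ve, T.vd, T.vv⟩

lemma indep (c : Fin 3 → F) (h : c 0 • e + c 1 • d + c 2 • v = 0) : c = 0 := by
  have h0 := congrArg (fun y => f y d) h
  have h1 := congrArg (fun y => f y e) h
  have h2 := congrArg (fun y => f y v) h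
  simp [u_add_left H.herm, u_smul_left H.herm, T.ee, T.dd, T.ed, T.de, T.ve, T.vd, T.ev, T.dv, T.vv,
    u_zero_left H.herm] at h0 h1 h2
  funext i
  fin_cases i
  exacts [h0, h1, h2]

/-- An isometry fixing `e` and `v` is a transvection at `e`. -/
lemma eq_ut {y : GL (Fin 3) F} (hy : y ∈ isoGrp f)
    (he : (y : Matrix (Fin 3) (Fin 3) F) *ᵥ e = e) (hv : (y : Matrix (Fin 3) (Fin 3) F) *ᵥ v = v) :
    ∃ a, σ a = -a ∧ y = ut H.herm e a := by
  have hf := H.herm
  have hi := mem_isoGrp.1 hy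
  set w := (y : Matrix (Fin 3) (Fin 3) F) *ᵥ d with hw
  have h1 : f w e = 1 := by
    have := hi d e
    rwa [he, T.de] at this
  have h2 : f w v = 0 := by
    have := hi d v
    rwa [hv, T.dv] at this
  have hexp : w = f w d • e + d := by
    conv_lhs => rw [T.expand w, h1, h2, one_smul, zero_smul, add_zero]
  refine ⟨f w d, ?_, T.ext ?_ ?_ ?_⟩
  · have h3 := hi d d
    rw [← hw, hexp] at h3
    simp only [u_add_left hf, u_add_right hf, u_smul_left hf, u_smul_right hf, T.ee, T.dd, T.ed,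
      T.de] at h3
    linear_combination h3
  · rw [he, ut_mulVec hf T.ee, T.ee, mul_zero, zero_smul, add_zero]
  · rw [← hw, ut_mulVec hf T.ee, T.de, mul_one, add_comm]; exact hexp
  · rw [hv, ut_mulVec hf T.ee, T.ve, mul_zero, zero_smul, add_zero]

/-- The triangular form of an element fixing `⟨e⟩`. -/
lemma tri {y : GL (Fin 3) F} (hy : y ∈ isoGrp f ⊓ Geo.specialLinear (Fin 3) F) {l μ ν : F}
    (he : (y : Matrix (Fin 3) (Fin 3) F) *ᵥ e = l • e)
    (hv : (y : Matrix (Fin 3) (Fin 3) F) *ᵥ v = μ • v + ν • e) :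
    ∃ α β γ : F, (y : Matrix (Fin 3) (Fin 3) F) *ᵥ d = α • e + β • d + γ • v ∧
      β * σ l = 1 ∧ β * σ ν + γ * σ μ = 0 ∧
      α * σ β + β * σ α + γ * σ γ = 0 ∧ l * μ * β = 1 := by
  have hf := H.herm
  have hi := mem_isoGrp.1 hy.1
  obtain ⟨α, β, γ, hd⟩ : ∃ α β γ : F,
      (y : Matrix (Fin 3) (Fin 3) F) *ᵥ d = α • e + β • d + γ • v := ⟨_, _, _, T.expand _⟩
  have h1 := hi d e
  have h2 := hi d v
  have h3 := hi d d
  rw [hd, he] at h1
  rw [hd, hv] at h2
  rw [hd] at h3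
  simp only [u_add_left hf, u_add_right hf, u_smul_left hf, u_smul_right hf, T.ee, T.dd, T.ed,
    T.de, T.ve, T.vd, T.ev, T.dv, T.vv] at h1 h2 h3
  refine ⟨α, β, γ, hd, by linear_combination h1, by linear_combination h2,
    by linear_combination h3, ?_⟩
  have hdet := det_cols (b := ![e, d, v]) (B := !![l, α, ν; 0, β, 0; 0, γ, μ]) (fun c => T.indep c)
    (g := (y : Matrix (Fin 3) (Fin 3) F)) (fun j => by
      fin_cases j
      · simpa using he
      · simpa using hd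
      · simpa [add_comm] using hv)
  rw [mem_sl3.1 hy.2, det_fin_three] at hdet
  simp at hdet
  linear_combination -hdet

end Trip

/-- The elements stabilising the rational vectors up to a scalar. -/
def ratGrp (_H : HSub σ f F₀ V) : Subgroup (GL (Fin 3) F) where
  carrier := {g | ∃ c : F, c ≠ 0 ∧ ∀ x ∈ V, c • ((g : Matrix (Fin 3) (Fin 3) F) *ᵥ x) ∈ V}
  one_mem' := ⟨1, one_ne_zero, fun x hx => by rwa [one_smul, Units.val_one, one_mulVec]⟩
  mul_mem' := fun {a b} ⟨c, hc, ha⟩ ⟨c', hc', hb⟩ => ⟨c * c', mul_ne_zero hc hc', fun x hx => by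
    have := ha _ (hb x hx)
    rwa [mulVec_smul, smul_smul, ← mul_mulVec] at this⟩
  inv_mem' := fun {a} ⟨c, hc, ha⟩ => ⟨c⁻¹, inv_ne_zero hc, fun x hx => by
    let T : V → V := fun z => ⟨_, ha z.1 z.2⟩
    have hinj : Function.Injective T := fun z z' h => by
      have h1 := congrArg Subtype.val h
      have h2 := congrArg (fun w => c⁻¹ • w) h1
      simp only [T, inv_smul_smul₀ hc] at h2
      have h3 := congrArg (fun w => ((a⁻¹ : GL (Fin 3) F) : Matrix (Fin 3) (Fin 3) F) *ᵥ w) h2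
      simp only [inv_mulVec_mulVec] at h3
      exact Subtype.ext h3
    obtain ⟨z, hz⟩ := Finite.surjective_of_injective hinj ⟨x, hx⟩
    have h1 : c • ((a : Matrix (Fin 3) (Fin 3) F) *ᵥ (z : Fin 3 → F)) = x := congrArg Subtype.val hz
    rw [← h1, mulVec_smul, inv_mulVec_mulVec, inv_smul_smul₀ hc]
    exact z.2⟩

lemma mem_ratGrp {g : GL (Fin 3) F} :
    g ∈ ratGrp H ↔ ∃ c : F, c ≠ 0 ∧ ∀ x ∈ V, c • ((g : Matrix (Fin 3) (Fin 3) F) *ᵥ x) ∈ V := Iff.rfl

/-- It suffices to look at a basis. -/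
lemma Trip.mem_ratGrp_of {e d v : Fin 3 → F} (T : Trip H e d v) {g : GL (Fin 3) F} {c : F}
    (hc : c ≠ 0) (he : c • ((g : Matrix (Fin 3) (Fin 3) F) *ᵥ e) ∈ V)
    (hd : c • ((g : Matrix (Fin 3) (Fin 3) F) *ᵥ d) ∈ V)
    (hv : c • ((g : Matrix (Fin 3) (Fin 3) F) *ᵥ v) ∈ V) : g ∈ ratGrp H := by
  refine ⟨c, hc, fun x hx => ?_⟩
  obtain ⟨h1, h2, h3⟩ := (T.mem_iff x).1 hx
  rw [T.expand x, mulVec_add, mulVec_add, mulVec_smul, mulVec_smul, mulVec_smul, smul_add, smul_add,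
    smul_comm c, smul_comm c, smul_comm c]
  exact V.add_mem (V.add_mem (H.smul _ h1 _ he) (H.smul _ h2 _ hd)) (H.smul _ h3 _ hv)

end Cfsg.Agent.H98.UThree.Sub
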