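import Cfsg.Agent.H98.UThree.Sub.Basic
import Cfsg.Agent.H98.UThree.Sub.Count
import Cfsg.Agent.H98.UThree.Blocks

/-!
The elements of a unitary group fixing a vector of length one, acting on the points of the
orthogonal line: each fixes one or two points, and the counting of `Count` applies.
-/

set_option autoImplicit false
set_option linter.style.haveILetI false
set_option linter.unusedSectionVars false

namespace Cfsg.Agent.H98.UThree.Sub

open scoped MatrixGroups Matrix LinearAlgebra.Projectivization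
open Matrix Cfsg
open Cfsg.Agent.H95 hiding exists_aniso_perp3 exists_isotropic
open Cfsg.Agent.Symplectic (ut ut_mulVec)

variable {F : Type*} [Field F] [Fintype F]
  {σ : F ≃+* F} {f : (Fin 3 → F) → (Fin 3 → F) → F} {M : Subgroup (GL (Fin 3) F)}

/-- A vector of length one and a hyperbolic pair orthogonal to it. -/
structure Plane (f : (Fin 3 → F) → (Fin 3 → F) → F) (e d w : Fin 3 → F) : Prop where
  ee : f e e = 0
  dd : f d d = 0
  ed : f e d = 1
  we : f w e = 0
  wd : f w d = 0
  ww : f w w = 1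

namespace Plane

variable {e d w : Fin 3 → F}

section Basic

variable (hf : Geo.IsUnitaryForm σ f) (T : Plane f e d w)
include hf T

lemma de : f d e = 1 := by rw [← u_conj hf, T.ed, map_one]

lemma ew : f e w = 0 := u_symm_zero hf T.we

lemma dw : f d w = 0 := u_symm_zero hf T.wd

lemma expand (y : Fin 3 → F) : y = f y d • e + f y e • d + f y w • w := by
  have := Cfsg.Agent.H36.SLThreeForms.expand hf T.ee T.dd T.ed T.we T.wd
    (by rw [T.ww]; exact one_ne_zero) y
  rwa [T.ww, div_one] at this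

lemma expand_perp {y : Fin 3 → F} (hy : f y w = 0) : y = f y d • e + f y e • d := by
  conv_lhs => rw [expand hf T y, hy, zero_smul, add_zero]

lemma e_ne : e ≠ 0 := fun h => by
  have := T.ed
  rw [h, u_zero_left hf] at this
  exact zero_ne_one this

lemma coord_inj {x y : Fin 3 → F} (hx : f x w = 0) (hy : f y w = 0) (h1 : f x d = f y d)
    (h2 : f x e = f y e) : x = y := by
  rw [expand_perp hf T hx, expand_perp hf T hy, h1, h2]

/-- Two vectors of the line orthogonal to an anisotropic one are proportional. -/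
lemma perp_line {a b y : Fin 3 → F} (ha : f a w = 0) (hb : f b w = 0) (hy : f y w = 0)
    (haa : f a a ≠ 0) (hba : f b a = 0) (hya : f y a = 0) (hb0 : b ≠ 0) :
    ∃ c : F, y = c • b := by
  have eqn : ∀ z, f z w = 0 → f z a = 0 → f z d * σ (f a e) + f z e * σ (f a d) = 0 := by
    intro z hz h
    rw [expand_perp hf T hz, expand_perp hf T ha] at h
    simpa [u_add_left hf, u_add_right hf, u_smul_left hf, u_smul_right hf, T.ee, T.dd, T.ed,
      de hf T] using h
  have e1 := eqn b hb hba
  have e2 := eqn y hy hya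
  have hdet : f y d * f b e = f y e * f b d := by
    by_contra hne
    have hne' := sub_ne_zero.2 hne
    have h1 : σ (f a e) = 0 := (mul_eq_zero.1 (show (f y d * f b e - f y e * f b d) * σ (f a e) = 0
      by linear_combination f b e * e2 - f y e * e1)).resolve_left hne'
    have h2 : σ (f a d) = 0 := (mul_eq_zero.1 (show (f y d * f b e - f y e * f b d) * σ (f a d) = 0
      by linear_combination f y d * e1 - f b d * e2)).resolve_left hne'
    refine haa ?_
    rw [map_eq_zero_iff _ σ.injective] at h1 h2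
    rw [expand_perp hf T ha, h1, h2, zero_smul, zero_smul, add_zero, u_zero_left hf]
  rcases eq_or_ne (f b e) 0 with h | h
  · have hbd : f b d ≠ 0 := fun h' => hb0 (by
      rw [expand_perp hf T hb, h, h', zero_smul, zero_smul, add_zero])
    refine ⟨f y d / f b d, coord_inj hf T hy (by rw [u_smul_left hf, hb, mul_zero]) ?_ ?_⟩
    · rw [u_smul_left hf, div_mul_cancel₀ _ hbd]
    · rw [h, mul_zero] at hdet
      rw [u_smul_left hf, h, mul_zero]
      exact (mul_eq_zero.1 hdet.symm).resolve_right hbd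
  · refine ⟨f y e / f b e, coord_inj hf T hy (by rw [u_smul_left hf, hb, mul_zero]) ?_ ?_⟩
    · rw [u_smul_left hf, div_mul_eq_mul_div, eq_div_iff h, hdet]
    · rw [u_smul_left hf, div_mul_cancel₀ _ h]

end Basic

/-- The coordinates of a vector on the line. -/
def co (f : (Fin 3 → F) → (Fin 3 → F) → F) (e d x : Fin 3 → F) : Fin 2 → F := ![f x d, f x e]

/-- The matrix of an element on the line. -/
def blockMat (f : (Fin 3 → F) → (Fin 3 → F) → F) (e d : Fin 3 → F) (g : GL (Fin 3) F) :
    Matrix (Fin 2) (Fin 2) F :=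
  !![f ((g : Matrix (Fin 3) (Fin 3) F) *ᵥ e) d, f ((g : Matrix (Fin 3) (Fin 3) F) *ᵥ d) d;
     f ((g : Matrix (Fin 3) (Fin 3) F) *ᵥ e) e, f ((g : Matrix (Fin 3) (Fin 3) F) *ᵥ d) e]

/-- The elements of `M` fixing `w`. -/
def fixVec (M : Subgroup (GL (Fin 3) F)) (w : Fin 3 → F) : Subgroup (GL (Fin 3) F) where
  carrier := {y | y ∈ M ∧ (y : Matrix (Fin 3) (Fin 3) F) *ᵥ w = w}
  mul_mem' := fun {a b} ha hb => ⟨M.mul_mem ha.1 hb.1, by rw [mul_mulVec, hb.2, ha.2]⟩
  one_mem' := ⟨M.one_mem, by rw [Units.val_one, one_mulVec]⟩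
  inv_mem' := fun {a} ha => ⟨M.inv_mem ha.1, by
    conv_lhs => rw [← ha.2]
    rw [inv_mulVec_mulVec]⟩

lemma mem_fixVec {y : GL (Fin 3) F} :
    y ∈ fixVec M w ↔ y ∈ M ∧ (y : Matrix (Fin 3) (Fin 3) F) *ᵥ w = w := Iff.rfl

variable (hf : Geo.IsUnitaryForm σ f) (T : Plane f e d w)
  (hM : M ≤ isoGrp f ⊓ Geo.specialLinear (Fin 3) F)

section Block

variable {g : GL (Fin 3) F} (hg : g ∈ fixVec M w)
include hf T hM hg

lemma perp_mem {x : Fin 3 → F} (hx : f x w = 0) :
    f ((g : Matrix (Fin 3) (Fin 3) F) *ᵥ x) w = 0 := by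
  conv_lhs => arg 2; rw [← hg.2]
  rw [mem_isoGrp.1 (hM hg.1).1, hx]

lemma co_mulVec {x : Fin 3 → F} (hx : f x w = 0) :
    co f e d ((g : Matrix (Fin 3) (Fin 3) F) *ᵥ x) = blockMat f e d g *ᵥ co f e d x := by
  funext i
  conv_lhs => rw [expand_perp hf T hx, mulVec_add, mulVec_smul, mulVec_smul]
  fin_cases i <;>
    simp [co, blockMat, mulVec, dotProduct, u_add_left hf, u_smul_left hf] <;> ring

lemma block_facts :
    (blockMat f e d g).det = 1 ∧ σ (blockMat f e d g).trace = (blockMat f e d g).trace := by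
  set ge := (g : Matrix (Fin 3) (Fin 3) F) *ᵥ e
  set gd := (g : Matrix (Fin 3) (Fin 3) F) *ᵥ d
  set a := f ge d with ha
  set c := f ge e with hc
  set b := f gd d with hb
  set d' := f gd e with hd'
  have h1 : ge = a • e + c • d := expand_perp hf T (perp_mem hf T hM hg (ew hf T))
  have h2 : gd = b • e + d' • d := expand_perp hf T (perp_mem hf T hM hg (dw hf T))
  have hi := mem_isoGrp.1 (hM hg.1).1
  have hdet : a * d' - b * c = 1 := by
    let Q : Matrix (Fin 3) (Fin 3) F := Matrix.of fun i j => (![e, d, w] : Fin 3 → Fin 3 → F) j i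
    let B : Matrix (Fin 3) (Fin 3) F := !![a, b, 0; c, d', 0; 0, 0, 1]
    have hQ : ∀ x : Fin 3 → F, Q *ᵥ x = x 0 • e + x 1 • d + x 2 • w := fun x => by
      funext i
      simp [Q, mulVec, dotProduct, Fin.sum_univ_three]
      ring
    have hmul : (g : Matrix (Fin 3) (Fin 3) F) * Q = Q * B :=
      Matrix.ext_iff_mulVec.2 fun x => by
        rw [← mulVec_mulVec, ← mulVec_mulVec, hQ, hQ, mulVec_add, mulVec_add, mulVec_smul,
          mulVec_smul, mulVec_smul, hg.2, show (g : Matrix (Fin 3) (Fin 3) F) *ᵥ e = _ from h1,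
          show (g : Matrix (Fin 3) (Fin 3) F) *ᵥ d = _ from h2]
        simp [B, mulVec, dotProduct, Fin.sum_univ_three]
        module
    have hQ0 : Q.det ≠ 0 := by
      intro h0
      obtain ⟨x, hx0, hx⟩ := Matrix.exists_mulVec_eq_zero_iff.2 h0
      rw [hQ] at hx
      have e1 := congrArg (fun y => f y d) hx
      have e2 := congrArg (fun y => f y e) hx
      have e3 := congrArg (fun y => f y w) hx
      simp only [u_add_left hf, u_smul_left hf, T.ee, T.dd, T.ed, de hf T, T.we, T.wd, ew hf T,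
        dw hf T, T.ww, u_zero_left hf] at e1 e2 e3
      refine hx0 (funext fun i => ?_)
      fin_cases i
      · simpa using e1
      · simpa using e2
      · simpa using e3
    have hdd := congrArg Matrix.det hmul
    rw [det_mul, det_mul, mem_sl3.1 (hM hg.1).2, mul_comm, mul_right_inj' hQ0] at hdd
    rw [hdd, det_fin_three]
    simp [B]
  have i1 := hi e d
  have i2 := hi d d
  have i3 := hi e e
  rw [show (g : Matrix (Fin 3) (Fin 3) F) *ᵥ e = _ from h1] at i1 i3
  rw [show (g : Matrix (Fin 3) (Fin 3) F) *ᵥ d = _ from h2] at i1 i2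
  simp only [u_add_left hf, u_add_right hf, u_smul_left hf, u_smul_right hf, T.ee, T.dd, T.ed,
    de hf T] at i1 i2 i3
  have hd : σ d' = d' := by linear_combination d' * i1 - c * i2 - σ d' * hdet
  have i1' : σ a * d' + σ c * b = 1 := by
    have := congrArg σ i1
    simp only [map_add, map_mul, u_inv hf, map_one, mul_zero, zero_add, mul_one, add_zero] at this
    linear_combination this
  have ha' : σ a = a := by linear_combination a * i1' - b * i3 - σ a * hdet
  refine ⟨?_, ?_⟩
  · rw [det_fin_two]; simpa [blockMat] using hdet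
  · rw [trace_fin_two]
    show σ (a + d') = a + d'
    rw [map_add, ha', hd]

end Block

/-- The action of `fixVec M w` on the line. -/
noncomputable def lineHom : fixVec M w →* GL (Fin 2) F :=
  MonoidHom.toHomUnits
    { toFun := fun g => blockMat f e d g
      map_one' := by
        ext i j
        fin_cases i <;> fin_cases j <;> simp [blockMat, T.ee, T.dd, T.ed, de hf T]
      map_mul' := fun g h => by
        refine Matrix.ext_iff_mulVec.2 fun x => ?_
        have hx : co f e d (x 0 • e + x 1 • d) = x := by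
          funext i
          fin_cases i <;> simp [co, u_add_left hf, u_smul_left hf, T.ee, T.dd, T.ed, de hf T]
        have hperp : f (x 0 • e + x 1 • d) w = 0 := by
          simp [u_add_left hf, u_smul_left hf, ew hf T, dw hf T]
        rw [← mulVec_mulVec, ← hx, ← co_mulVec hf T hM (g * h).2 hperp,
          ← co_mulVec hf T hM h.2 hperp, ← co_mulVec hf T hM g.2 (perp_mem hf T hM h.2 hperp),
          Subgroup.coe_mul, mul_mulVec] }

lemma lineHom_val (g : fixVec M w) :
    ((lineHom hf T hM g : GL (Fin 2) F) : Matrix (Fin 2) (Fin 2) F) = blockMat f e d g := rfl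

/-- The action on the points of the line. -/
@[reducible] noncomputable def lineAct : MulAction (fixVec M w) (ℙ F (Fin 2 → F)) :=
  MulAction.compHom _ ((Matrix.GeneralLinearGroup.toLin (n := Fin 2) (R := F)).toMonoidHom.comp
    (lineHom hf T hM))

lemma lineAct_eq (g : fixVec M w) {v u : Fin 2 → F} (hv : v ≠ 0) (hu : u ≠ 0) :
    (letI := lineAct hf T hM; g • Projectivization.mk F v hv = Projectivization.mk F u hu) ↔
      ∃ l : F, blockMat f e d g *ᵥ v = l • u := by
  show Projectivization.mk F _ _ = Projectivization.mk F u hu ↔ _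
  rw [Projectivization.mk_eq_mk_iff']
  exact ⟨fun ⟨l, hl⟩ => ⟨l, hl.symm⟩, fun ⟨l, hl⟩ => ⟨l, hl.symm⟩⟩

include hf T in
lemma co_ne {x : Fin 3 → F} (hx : f x w = 0) (hx0 : x ≠ 0) : co f e d x ≠ 0 := fun h => hx0 <|
  coord_inj hf T hx (u_zero_left hf w) (by simpa [co, u_zero_left hf] using congrFun h 0)
    (by simpa [co, u_zero_left hf] using congrFun h 1)

lemma co_smul (hf : Geo.IsUnitaryForm σ f) (l : F) (x : Fin 3 → F) :
    co f e d (l • x) = l • co f e d x := by
  funext i; fin_cases i <;> simp [co, u_smul_left hf]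

/-- Transfer of the action to the vectors. -/
lemma act_iff (g : fixVec M w) {x y : Fin 3 → F} (hx : f x w = 0) (hy : f y w = 0) (hx0 : x ≠ 0)
    (hy0 : y ≠ 0) :
    (letI := lineAct hf T hM; g • Projectivization.mk F _ (co_ne hf T hx hx0)
      = Projectivization.mk F _ (co_ne hf T hy hy0)) ↔
      ∃ l : F, ((g : GL (Fin 3) F) : Matrix (Fin 3) (Fin 3) F) *ᵥ x = l • y := by
  rw [lineAct_eq]
  refine exists_congr fun l => ?_
  rw [← co_mulVec hf T hM g.2 hx, ← co_smul hf]
  refine ⟨fun h => coord_inj hf T (perp_mem hf T hM g.2 hx) (by rw [u_smul_left hf, hy, mul_zero])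
    (congrFun h 0) (congrFun h 1), fun h => by rw [h]⟩

section Fix

variable {q : ℕ} (hF : Fintype.card F = q ^ 2) (hσ : ∀ x, σ x = x ^ q)
  (hU : ∀ y ∈ fixVec M w, (∃ l : F, (y : Matrix (Fin 3) (Fin 3) F) *ᵥ e = l • e) →
    ∃ a, y = ut hf e a)
include hf T hM hU

lemma eq_one_of_scalar (g : fixVec M w) {c : F}
    (h : blockMat f e d g = c • (1 : Matrix (Fin 2) (Fin 2) F)) : g = 1 := by
  have hge : ∀ x, f x w = 0 → ((g : GL (Fin 3) F) : Matrix (Fin 3) (Fin 3) F) *ᵥ x = c • x := by
    intro x hx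
    refine coord_inj hf T (perp_mem hf T hM g.2 hx) (by rw [u_smul_left hf, hx, mul_zero]) ?_ ?_
    all_goals
      have hc := co_mulVec hf T hM g.2 hx
      rw [h, smul_mulVec, one_mulVec, ← co_smul hf] at hc
    exacts [congrFun hc 0, congrFun hc 1]
  obtain ⟨a, ha⟩ := hU _ g.2 ⟨c, hge e (ew hf T)⟩
  have hc1 : c = 1 := by
    have h1 := hge e (ew hf T)
    rw [ha, ut_mulVec hf T.ee, T.ee, mul_zero, zero_smul, add_zero] at h1
    have := congrArg (fun y => f y d) h1
    simpa [u_smul_left hf, T.ed] using this.symm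
  refine Subtype.ext (gl_ext fun x => ?_)
  rw [Subgroup.coe_one, Units.val_one, one_mulVec]
  conv_lhs => rw [expand hf T x]
  conv_rhs => rw [expand hf T x]
  rw [mulVec_add, mulVec_add, mulVec_smul, mulVec_smul, mulVec_smul, hge e (ew hf T),
    hge d (dw hf T), g.2.2, hc1, one_smul, one_smul]

include hF hσ

lemma twoFix : (letI := lineAct hf T hM; TwoFix (fixVec M w) (ℙ F (Fin 2 → F))) := by
  letI := lineAct hf T hM
  have hscal : ∀ g : fixVec M w, g ≠ 1 → ∀ c : F,
      blockMat f e d g ≠ c • (1 : Matrix (Fin 2) (Fin 2) F) :=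
    fun g hg c h => hg (eq_one_of_scalar hf T hM hU g h)
  have hsplit : ∀ x y : ℙ F (Fin 2 → F), x ≠ y → ∀ t : F, t • x.rep ≠ y.rep := by
    intro x y hxy t h
    refine hxy ?_
    rw [← x.mk_rep, ← y.mk_rep]
    refine ((Projectivization.mk_eq_mk_iff' F _ _ y.rep_nonzero x.rep_nonzero).2 ⟨t, h⟩).symm
  have heig : ∀ (g : fixVec M w) (x : ℙ F (Fin 2 → F)), g • x = x →
      ∃ l : F, blockMat f e d g *ᵥ x.rep = l • x.rep := by
    intro g x h
    rw [← x.mk_rep] at h
    exact (lineAct_eq hf T hM g x.rep_nonzero x.rep_nonzero).1 h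
  refine ⟨fun g _ => ?_, fun g hg x y z hx hy hz => ?_, fun g hg hgg x y hx hy => ?_⟩
  · obtain ⟨hdet, htr⟩ := block_facts hf T hM g.2
    obtain ⟨l, hl⟩ := exists_root hF (δ := 1) (by rw [one_pow, mul_one])
      (by rw [one_mul, ← hσ]; exact htr.symm)
    have h0 : (blockMat f e d g - l • (1 : Matrix (Fin 2) (Fin 2) F)).det = 0 := by
      rw [det_fin_two] at hdet ⊢
      rw [trace_fin_two] at hl
      simp [Matrix.sub_apply, Matrix.smul_apply, one_apply]
      linear_combination hl + hdet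
    obtain ⟨v, hv, hv'⟩ := Matrix.exists_mulVec_eq_zero_iff.2 h0
    rw [sub_mulVec, smul_mulVec, one_mulVec, sub_eq_zero] at hv'
    exact ⟨_, (lineAct_eq hf T hM g hv hv).2 ⟨l, hv'⟩⟩
  · by_contra hne
    push Not at hne
    obtain ⟨l₁, e₁⟩ := heig g x hx
    obtain ⟨l₂, e₂⟩ := heig g y hy
    obtain ⟨l₃, e₃⟩ := heig g z hz
    exact hscal g hg _ (scalar_of_three e₁ e₂ e₃ x.rep_nonzero (hsplit x y hne.1)
      (hsplit x z hne.2.1) (hsplit y z hne.2.2))
  · by_contra hne
    obtain ⟨hdet, -⟩ := block_facts hf T hM g.2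
    set B := blockMat f e d g with hB
    have hBB : B * B = 1 := by
      have := congrArg (fun k => ((lineHom hf T hM k : GL (Fin 2) F) : Matrix (Fin 2) (Fin 2) F)) hgg
      simpa only [map_mul, map_one, Units.val_mul, Units.val_one, lineHom_val] using this
    have hCH : B.trace • B = (2 : F) • (1 : Matrix (Fin 2) (Fin 2) F) := by
      have h00 := congrFun (congrFun hBB 0) 0
      have h01 := congrFun (congrFun hBB 0) 1
      have h10 := congrFun (congrFun hBB 1) 0
      have h11 := congrFun (congrFun hBB 1) 1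
      simp [mul_apply, Fin.sum_univ_two, one_apply] at h00 h01 h10 h11
      rw [det_fin_two] at hdet
      ext i j
      fin_cases i <;> fin_cases j <;>
        simp [trace_fin_two, one_apply, -mul_eq_zero]
      · linear_combination h00 + hdet
      · linear_combination h01
      · linear_combination h10
      · linear_combination h11 + hdet
    rcases eq_or_ne B.trace 0 with h0 | h0
    · have h2 : (2 : F) = 0 := by
        rw [h0, zero_smul] at hCH
        simpa using (congrFun (congrFun hCH 0) 0).symm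
      obtain ⟨l₁, e₁⟩ := heig g x hx
      obtain ⟨l₂, e₂⟩ := heig g y hy
      have hl : ∀ (v : Fin 2 → F) (l : F), v ≠ 0 → B *ᵥ v = l • v → l = 1 := by
        intro v l hv hl
        have h1 : B *ᵥ (B *ᵥ v) = v := by rw [mulVec_mulVec, hBB, one_mulVec]
        rw [hl, mulVec_smul, hl, smul_smul] at h1
        obtain ⟨i, hi⟩ := Function.ne_iff.1 hv
        have h3 : (l - 1) * (l - 1) = 0 := by
          have h4 : (l * l - 1) * v i = 0 := by
            have := congrFun h1 i
            simp only [Pi.smul_apply, smul_eq_mul] at this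
            linear_combination this
          linear_combination (mul_eq_zero.1 h4).resolve_right hi + (1 - l) * h2
        exact sub_eq_zero.1 (mul_self_eq_zero.1 h3)
      rw [hl _ _ x.rep_nonzero e₁] at e₁
      rw [hl _ _ y.rep_nonzero e₂] at e₂
      have h3 : B *ᵥ (x.rep + y.rep) = (1 : F) • (x.rep + y.rep) := by
        rw [mulVec_add, e₁, e₂, smul_add]
      have hxy := hsplit x y hne
      have hyx := hsplit y x (Ne.symm hne)
      refine hscal g hg _ (scalar_of_three e₁ e₂ h3 x.rep_nonzero hxy (fun t ht => ?_) fun t ht => ?_)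
      · exact hxy (t - 1) (by rw [sub_smul, ht, one_smul, add_sub_cancel_left])
      · exact hyx (t - 1) (by rw [sub_smul, ht, one_smul, add_sub_cancel_right])
    · refine hscal g hg (2 / B.trace) ?_
      rw [← hB, div_eq_inv_mul, ← smul_smul, ← hCH, inv_smul_smul₀ h0]

omit hF hσ in
lemma fix_e_only (g : fixVec M w) (hg : g ≠ 1) :
    (letI := lineAct hf T hM; g • Projectivization.mk F _ (co_ne hf T (ew hf T) (e_ne hf T))
      = Projectivization.mk F _ (co_ne hf T (ew hf T) (e_ne hf T))) →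
    ∀ x : ℙ F (Fin 2 → F), (letI := lineAct hf T hM; g • x = x) →
      x = Projectivization.mk F _ (co_ne hf T (ew hf T) (e_ne hf T)) := by
  letI := lineAct hf T hM
  intro hga x hx
  obtain ⟨a, ha⟩ := hU _ g.2 ((act_iff hf T hM g (ew hf T) (ew hf T) (e_ne hf T) (e_ne hf T)).1 hga)
  have hB : blockMat f e d g = !![1, a; 0, 1] := by
    ext i j
    fin_cases i <;> fin_cases j <;>
      simp [blockMat, ha, ut_mulVec hf T.ee, u_add_left hf, u_smul_left hf, T.ee, T.ed, T.dd,
        de hf T]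
  have ha0 : a ≠ 0 := fun h => hg (eq_one_of_scalar hf T hM hU g (c := 1) (by
    rw [hB, h, one_smul, one_fin_two]))
  rw [← x.mk_rep] at hx
  obtain ⟨l, hl⟩ := (lineAct_eq hf T hM g x.rep_nonzero x.rep_nonzero).1 hx
  rw [hB] at hl
  have h0 := congrFun hl 0
  have h1 := congrFun hl 1
  simp [mulVec, dotProduct] at h0 h1
  have hr1 : x.rep 1 = 0 := by
    by_contra hne
    have hl1 : l = 1 := by
      have h3 : (l - 1) * x.rep 1 = 0 := by linear_combination -h1
      exact sub_eq_zero.1 ((mul_eq_zero.1 h3).resolve_right hne)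
    subst hl1
    exact mul_ne_zero ha0 hne (by linear_combination h0)
  conv_lhs => rw [← x.mk_rep]
  rw [Projectivization.mk_eq_mk_iff']
  exact ⟨x.rep 0, funext fun i => by fin_cases i <;> simp [co, T.ee, T.ed, hr1]⟩

/-- Three root elements at `e` make every element fixing `w` fix `⟨e⟩`. -/
theorem fix_of_three (h3 : 3 ≤ Nat.card {a : F // ut hf e a ∈ fixVec M w}) {y : GL (Fin 3) F}
    (hy : y ∈ fixVec M w) : ∃ l : F, (y : Matrix (Fin 3) (Fin 3) F) *ᵥ e = l • e := by
  letI := lineAct hf T hM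
  set a₀ := Projectivization.mk F _ (co_ne hf T (ew hf T) (e_ne hf T))
  have hcard : 3 ≤ Nat.card (MulAction.stabilizer (fixVec M w) a₀) := by
    refine h3.trans (Nat.card_le_card_of_injective (fun a => ⟨⟨_, a.2⟩, ?_⟩) fun a b h => ?_)
    · refine (act_iff hf T hM _ (ew hf T) (ew hf T) (e_ne hf T) (e_ne hf T)).2 ⟨1, ?_⟩
      rw [one_smul, ut_mulVec hf T.ee, T.ee, mul_zero, zero_smul, add_zero]
    · have h1 := congrArg (fun k : MulAction.stabilizer (fixVec M w) a₀ =>
        f (((k.1 : fixVec M w) : GL (Fin 3) F).val *ᵥ d) d) h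
      simpa [ut_mulVec hf T.ee, u_add_left hf, u_smul_left hf, T.dd, T.ed, de hf T,
        Subtype.ext_iff] using h1
  have htop := stab_eq_top (twoFix hf T hM hF hσ hU) (fix_e_only hf T hM hU) hcard
  exact (act_iff hf T hM ⟨y, hy⟩ (ew hf T) (ew hf T) (e_ne hf T) (e_ne hf T)).1
    (MulAction.mem_stabilizer_iff.1 (htop ▸ Subgroup.mem_top _))

/-- Two root elements at `e`: an orthogonal pair fixed by a further element is invariant. -/
theorem pair_of_two {s : F} (hs : ut hf e s ∈ fixVec M w) (hs0 : s ≠ 0)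
    (h2 : ∀ a, ut hf e a ∈ fixVec M w → a = 0 ∨ a = s)
    {u u' : Fin 3 → F} (hu : f u w = 0) (hu' : f u' w = 0) (huu' : f u u' = 0)
    (hun : f u u ≠ 0) (hu'n : f u' u' ≠ 0) {ρ : GL (Fin 3) F} (hρ : ρ ∈ fixVec M w) (hρ1 : ρ ≠ 1)
    {lρ : F} (hρu : (ρ : Matrix (Fin 3) (Fin 3) F) *ᵥ u = lρ • u) {y : GL (Fin 3) F}
    (hy : y ∈ fixVec M w) :
    ∃ l : F, (y : Matrix (Fin 3) (Fin 3) F) *ᵥ u = l • u ∨
      (y : Matrix (Fin 3) (Fin 3) F) *ᵥ u = l • u' := by
  letI := lineAct hf T hM
  have hu0 : u ≠ 0 := fun h => hun (by rw [h, u_zero_left hf])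
  have hu'0 : u' ≠ 0 := fun h => hu'n (by rw [h, u_zero_left hf])
  set a₀ := Projectivization.mk F _ (co_ne hf T (ew hf T) (e_ne hf T)) with ha₀
  set p := Projectivization.mk F _ (co_ne hf T hu hu0) with hp
  set p' := Projectivization.mk F _ (co_ne hf T hu' hu'0) with hp'
  have hcard : Nat.card (MulAction.stabilizer (fixVec M w) a₀) = 2 := by
    have h0 : (⟨1, one_smul _ _⟩ : {g : fixVec M w // g • a₀ = a₀}) ≠
        ⟨⟨_, hs⟩, (act_iff hf T hM _ (ew hf T) (ew hf T) (e_ne hf T) (e_ne hf T)).2 ⟨1, by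
          rw [one_smul, ut_mulVec hf T.ee, T.ee, mul_zero, zero_smul, add_zero]⟩⟩ := fun h => by
      have h1 := congrArg (fun k : {g : fixVec M w // g • a₀ = a₀} =>
        f (((k.1 : fixVec M w) : GL (Fin 3) F).val *ᵥ d) d) h
      simp [ut_mulVec hf T.ee, u_add_left hf, u_smul_left hf, T.dd, T.ed, de hf T] at h1
      exact hs0 h1.symm
    rw [show (MulAction.stabilizer (fixVec M w) a₀ : Type _) = {g : fixVec M w // g • a₀ = a₀}
      from rfl, Nat.card_eq_two_iff]
    refine ⟨_, _, h0, Set.eq_univ_of_forall fun g => ?_⟩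
    obtain ⟨a, ha⟩ := hU _ g.1.2
      ((act_iff hf T hM g.1 (ew hf T) (ew hf T) (e_ne hf T) (e_ne hf T)).1 g.2)
    rcases h2 a (ha ▸ g.1.2) with rfl | rfl
    · refine Or.inl (Subtype.ext (Subtype.ext ?_))
      rw [ha, Cfsg.Agent.Symplectic.ut_zero hf e T.ee]
      rfl
    · exact Or.inr (Subtype.ext (Subtype.ext ha))
  have hstab : ∀ g : fixVec M w, g • p = p ↔ g • p' = p' := by
    have key : ∀ (g : fixVec M w) {a b : Fin 3 → F}, f a w = 0 → f b w = 0 → f a b = 0 →
        f a a ≠ 0 → (∃ l : F, ((g : GL (Fin 3) F) : Matrix (Fin 3) (Fin 3) F) *ᵥ a = l • a) →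
        b ≠ 0 → ∃ l : F, ((g : GL (Fin 3) F) : Matrix (Fin 3) (Fin 3) F) *ᵥ b = l • b := by
      intro g a b ha hb hab haa ⟨l, hl⟩ hb0
      refine perp_line hf T ha hb (perp_mem hf T hM g.2 hb) haa (u_symm_zero hf hab) ?_ hb0
      have h1 := mem_isoGrp.1 (hM g.2.1).1 b a
      rw [hl, u_smul_right hf, u_symm_zero hf hab] at h1
      refine (mul_eq_zero.1 h1).resolve_left fun h => haa ?_
      rw [map_eq_zero_iff _ σ.injective] at h
      rw [h, zero_smul] at hl
      rw [← inv_mulVec_mulVec (g : GL (Fin 3) F) a, hl, mulVec_zero, u_zero_left hf]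
    intro g
    rw [hp, hp', act_iff hf T hM g hu hu hu0 hu0, act_iff hf T hM g hu' hu' hu'0 hu'0]
    exact ⟨fun h => key g hu hu' huu' hun h hu'0,
      fun h => key g hu' hu (u_symm_zero hf huu') hu'n h hu0⟩
  have hne : p ≠ p' := by
    rw [hp, hp', ne_eq, Projectivization.mk_eq_mk_iff']
    rintro ⟨l, hl⟩
    rw [← co_smul hf] at hl
    have := coord_inj hf T (by rw [u_smul_left hf, hu', mul_zero]) hu (congrFun hl 0) (congrFun hl 1)
    exact hun (by conv_lhs => arg 1; rw [← this]
                  rw [u_smul_left hf, u_symm_zero hf huu', mul_zero])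
  have hp1 : (⟨ρ, hρ⟩ : fixVec M w) • p = p :=
    (act_iff hf T hM ⟨ρ, hρ⟩ hu hu hu0 hu0).2 ⟨lρ, hρu⟩
  rcases pair_invariant (twoFix hf T hM hF hσ hU) (fix_e_only hf T hM hU) hcard hne hstab
    (fun h => hρ1 (congrArg Subtype.val h)) hp1 ⟨y, hy⟩ with h | h
  · exact ((act_iff hf T hM ⟨y, hy⟩ hu hu hu0 hu0).1 h).imp fun _ => Or.inl
  · exact ((act_iff hf T hM ⟨y, hy⟩ hu hu' hu0 hu'0).1 h).imp fun _ => Or.inr

end Fix

end Plane

end Cfsg.Agent.H98.UThree.Sub
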