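import Cfsg.Agent.H98.UThree.Sub.Orbit
import Cfsg.Agent.H98.UThree.Frame

/-!
Four elements in the smaller field: an irrational centre orthogonal to a rational vector of length
one would force the monomial group of an orthogonal frame, which needs a new parameter.
-/

set_option autoImplicit false
set_option linter.unusedSectionVars false

namespace Cfsg.Agent.H98.UThree.Sub

open scoped MatrixGroups Matrix
open Matrix Cfsg
open Cfsg.Agent.H95 hiding exists_aniso_perp3 exists_isotropic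
open Cfsg.Agent.Symplectic (HSub ut ue EichOK ut_mulVec ue_mulVec ut_mem_iso ut_mem_sl conj_ut
  ut_smul_vec ut_add ut_zero)

variable {F : Type*} [Field F] [Fintype F] {q : ℕ}
  {σ : F ≃+* F} {F₀ : Subfield F}
  {V : AddSubgroup (Fin 3 → F)} {M : Subgroup (GL (Fin 3) F)}
  {f : (Fin 3 → F) → (Fin 3 → F) → F} {H : HSub σ f F₀ V}

variable (hF : Fintype.card F = q ^ 2) (hσ : ∀ x, σ x = x ^ q) (hk : Tiny σ F₀) (hO : H.Over M)
  (hN : NoNew H M)
include hF hσ hk hO hN

/-- A diagonal element outside the smaller field. -/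
lemma exists_diag {e d v : Fin 3 → F} (T : Trip H e d v) {θ : F} (hθ : θ ∈ F₀)
    (hθN : θ * σ θ = 1) (hθ1 : θ + σ θ = 1) (hθ2 : θ * θ + θ + 1 = 0) {x : Fin 3 → F}
    (hx0 : x ≠ 0) (hxx : f x x = 0) (hxM : ut H.herm x 1 ∈ M)
    (hxv : f v x = 0) (hxV : ¬ ∃ c : F, c ≠ 0 ∧ c • x ∈ V) :
    ∃ c : F, c * σ c = 1 ∧ c ∉ F₀ ∧ ∃ g ∈ M, (g : Matrix (Fin 3) (Fin 3) F) *ᵥ v = v ∧
      (g : Matrix (Fin 3) (Fin 3) F) *ᵥ (θ • e + d) = σ c • (θ • e + d) ∧
      (g : Matrix (Fin 3) (Fin 3) F) *ᵥ (σ θ • e + d) = c • (σ θ • e + d) := by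
  have hf := H.herm
  have h2 := two_eq_zero hk
  set u := θ • e + d with hu
  set u' := σ θ • e + d with hu'
  have huv : f u v = 0 := by rw [hu, u_add_left hf, u_smul_left hf, T.ev, T.dv]; ring
  have hu'v : f u' v = 0 := by rw [hu', u_add_left hf, u_smul_left hf, T.ev, T.dv]; ring
  have huu : f u u = 1 := by
    simp only [hu, u_add_left hf, u_add_right hf, u_smul_left hf, u_smul_right hf, T.ee, T.dd, T.ed,
      T.de]
    linear_combination hθ1
  have hu'u' : f u' u' = 1 := by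
    simp only [hu', u_add_left hf, u_add_right hf, u_smul_left hf, u_smul_right hf, T.ee, T.dd,
      T.ed, T.de, u_inv hf]
    linear_combination hθ1
  have huu' : f u u' = 0 := by
    simp only [hu, hu', u_add_left hf, u_add_right hf, u_smul_left hf, u_smul_right hf, T.ee, T.dd,
      T.ed, T.de, u_inv hf]
    linear_combination θ * h2
  have hu'V : u' ∈ V := V.add_mem (H.smul _ (H.stable θ hθ) e T.he) T.hd
  have huV : u ∈ V := V.add_mem (H.smul θ hθ e T.he) T.hd
  have hU : ∀ y ∈ Plane.fixVec M v,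
      (∃ l : F, (y : Matrix (Fin 3) (Fin 3) F) *ᵥ e = l • e) → ∃ a, y = ut hf e a := by
    rintro y hy ⟨l, hl⟩
    obtain ⟨μ, ν, -, -, -, -, hN1⟩ := fixer_rat hO hN T hy.1 hl
    have hl0 : l ≠ 0 := fun h => T.e_ne (by
      rw [← inv_mulVec_mulVec y e, hl, h, zero_smul, mulVec_zero])
    exact fix_v_ut hk hO T hy hl ((hk _ hN1 (by rw [map_mul, u_inv hf, mul_comm])).resolve_left
      (mul_ne_zero hl0 ((map_ne_zero_iff σ σ.injective).2 hl0)))
  have hs : ut hf e 1 ∈ Plane.fixVec M v :=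
    ⟨ut_one_mem hk hO T.he T.ee, by rw [ut_mulVec hf T.ee, T.ve, mul_zero, zero_smul, add_zero]⟩
  have htwo : ∀ a, ut hf e a ∈ Plane.fixVec M v → a = 0 ∨ a = 1 := by
    intro a ha
    have haσ : σ a = -a := by
      have := mem_isoGrp.1 (H.iso_of_mem hO ha.1) d d
      simp only [ut_mulVec hf T.ee, T.de, mul_one, u_add_left hf, u_add_right hf, u_smul_left hf,
        u_smul_right hf, T.ee, T.dd, T.ed, T.de] at this
      linear_combination this
    exact hk a (hN e T.iso0 a haσ ha.1) (fixed_of_skew hk haσ)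
  -- a rational element of order three
  let L : (Fin 3 → F) →ₗ[F] (Fin 3 → F) :=
    { toFun := fun z => f z v • v + (θ * f z u) • u + (σ θ * f z u') • u'
      map_add' := fun p p' => by simp only [u_add_left hf]; module
      map_smul' := fun p p' => by simp only [u_smul_left hf, RingHom.id_apply]; module }
  set R := LinearMap.toMatrix' L with hR
  have hRap : ∀ z, R *ᵥ z = f z v • v + (θ * f z u) • u + (σ θ * f z u') • u' := fun z => by
    rw [hR, LinearMap.toMatrix'_mulVec]; rfl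
  have hRv : R *ᵥ v = v := by
    rw [hRap, T.vv, u_symm_zero hf huv, u_symm_zero hf hu'v]; simp
  have hRu : R *ᵥ u = θ • u := by rw [hRap, huv, huu, huu']; simp
  have hRu' : R *ᵥ u' = σ θ • u' := by rw [hRap, hu'v, hu'u', u_symm_zero hf huu']; simp
  have hind : ∀ p : Fin 3 → F, p 0 • v + p 1 • u + p 2 • u' = 0 → p = 0 := fun p h => by
    have e0 := congrArg (fun z => f z v) h
    have e1 := congrArg (fun z => f z u) h
    have e2 := congrArg (fun z => f z u') h
    simp [u_add_left hf, u_smul_left hf, T.vv, huv, hu'v, huu, huu', hu'u', u_symm_zero hf huv,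
      u_symm_zero hf hu'v, u_symm_zero hf huu', u_zero_left hf] at e0 e1 e2
    funext i
    fin_cases i
    exacts [e0, e1, e2]
  have hRdet : R.det = 1 := by
    rw [det_cols (b := ![v, u, u']) (B := !![1, 0, 0; 0, θ, 0; 0, 0, σ θ]) (fun p => hind p)
      (fun j => by
        fin_cases j
        · simpa using hRv
        · simpa using hRu
        · simpa using hRu'), det_fin_three]
    simp [hθN]
  set ρ : GL (Fin 3) F := Matrix.GeneralLinearGroup.mkOfDetNeZero R (by rw [hRdet]; exact one_ne_zero)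
  have hρv : (ρ : Matrix (Fin 3) (Fin 3) F) = R := rfl
  have hρM : ρ ∈ M := by
    refine hO.2 ρ ⟨?_, mem_sl3.2 (by rw [hρv, hRdet])⟩ fun z hz => ?_
    · show ρ ∈ isoGrp f
      rw [mem_isoGrp]
      intro z z'
      have hspan : ∀ z, z = f z v • v + f z u • u + f z u' • u' := fun z => by
        have hze : z = f z d • e + f z e • d + f z v • v := T.expand z
        have c1 : f z u = σ θ * f z e + f z d := by rw [hu, u_add_right hf, u_smul_right hf]
        have c2 : f z u' = θ * f z e + f z d := by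
          rw [hu', u_add_right hf, u_smul_right hf, u_inv hf]
        conv_lhs => rw [hze]
        rw [c1, c2, hu, hu']
        match_scalars
        · linear_combination -f z d * hθ1 - θ * σ θ * f z e * h2
        · linear_combination -f z e * hθ1 - f z d * h2
        · ring
      rw [hρv]
      conv_rhs => rw [hspan z, hspan z']
      rw [hRap, hRap]
      simp only [u_add_left hf, u_add_right hf, u_smul_left hf, u_smul_right hf, T.vv, huu, hu'u',
        huv, hu'v, huu', u_symm_zero hf huv, u_symm_zero hf hu'v, u_symm_zero hf huu', map_mul,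
        u_inv hf]
      linear_combination (f z u * σ (f z' u) + f z u' * σ (f z' u')) * hθN
    · rw [hρv, hRap]
      exact V.add_mem (V.add_mem (H.smul _ (H.rat z hz v T.hv) v T.hv)
        (H.smul _ (F₀.mul_mem hθ (H.rat z hz u huV)) u huV))
        (H.smul _ (F₀.mul_mem (H.stable θ hθ) (H.rat z hz u' hu'V)) u' hu'V)
  have hρ1 : ρ ≠ 1 := fun h => by
    have h1 : R *ᵥ u = u := by rw [← hρv, h, Units.val_one, one_mulVec]
    rw [hRu] at h1
    have := congrArg (fun z => f z u) h1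
    simp [u_smul_left hf, huu] at this
    subst this
    exact one_ne_zero (α := F) (by linear_combination hθ2 - h2)
  have key := fun {y : GL (Fin 3) F} (hy : y ∈ Plane.fixVec M v) =>
    T.plane.pair_of_two hf hO.1 hF hσ hU hs one_ne_zero htwo huv hu'v huu'
      (by rw [huu]; exact one_ne_zero) (by rw [hu'u']; exact one_ne_zero)
      (ρ := ρ) ⟨hρM, by rw [hρv, hRv]⟩ hρ1 (lρ := θ) (by rw [hρv, hRu]) hy
  set j := ut hf x 1 with hj
  set A := f x u with hA
  set B := f x u' with hB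
  have hjmem : j ∈ Plane.fixVec M v :=
    ⟨hxM, by rw [hj, ut_mulVec hf hxx, hxv, mul_zero, zero_smul, add_zero]⟩
  have hxe : x = A • u + B • u' := by
    have hze := T.expand x
    rw [u_symm_zero hf hxv, zero_smul, add_zero] at hze
    have c1 : A = σ θ * f x e + f x d := by rw [hA, hu, u_add_right hf, u_smul_right hf]
    have c2 : B = θ * f x e + f x d := by
      rw [hB, hu', u_add_right hf, u_smul_right hf, u_inv hf]
    conv_lhs => rw [hze]
    rw [c1, c2, hu, hu']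
    match_scalars
    · linear_combination -f x d * hθ1 - θ * σ θ * f x e * h2
    · linear_combination -f x e * hθ1 - f x d * h2
  have hju : (j : Matrix (Fin 3) (Fin 3) F) *ᵥ u = u + σ A • x := by
    rw [hj, ut_mulVec hf hxx, one_mul, hA, u_conj hf]
  have hju' : (j : Matrix (Fin 3) (Fin 3) F) *ᵥ u' = u' + σ B • x := by
    rw [hj, ut_mulVec hf hxx, one_mul, hB, u_conj hf]
  have hAB : A * σ A + B * σ B = 0 := by
    have := hxx
    rw [hxe] at this
    simp only [u_add_left hf, u_add_right hf, u_smul_left hf, u_smul_right hf, huu, hu'u', huu',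
      u_symm_zero hf huu'] at this
    linear_combination this
  obtain ⟨l, hl⟩ := key hjmem
  have hNA : A * σ A = 1 := by
    rcases hl with hl | hl
    · exfalso
      rw [hju, hxe] at hl
      have e1 := congrArg (fun z => f z u') hl
      simp [u_add_left hf, u_smul_left hf, huu', hu'u'] at e1
      refine hx0 ?_
      rcases e1 with hA0 | hB0
      · have hB0 : B * σ B = 0 := by linear_combination hAB - σ A * hA0
        have hB0' : B = 0 := (mul_eq_zero.1 hB0).elim id fun h => (map_eq_zero_iff _ σ.injective).1 h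
        rw [hxe, hB0', hA0]
        simp
      · have hA0 : A * σ A = 0 := by linear_combination hAB - σ B * hB0
        have hA0' : A = 0 := (mul_eq_zero.1 hA0).elim id fun h => (map_eq_zero_iff _ σ.injective).1 h
        rw [hxe, hB0, hA0']
        simp
    · rw [hju, hxe] at hl
      have e1 := congrArg (fun z => f z u) hl
      simp [u_add_left hf, u_smul_left hf, huu, u_symm_zero hf huu'] at e1
      linear_combination e1 - h2
  have hNB : B * σ B = 1 := by linear_combination hAB - hNA - h2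
  set c := σ A * B with hc
  have hu_img : (j : Matrix (Fin 3) (Fin 3) F) *ᵥ u = c • u' := by
    rw [hju, hxe, hc, show u + σ A • (A • u + B • u') = (1 + A * σ A) • u + (σ A * B) • u' by module,
      show (1 : F) + A * σ A = 0 by linear_combination hNA + h2, zero_smul, zero_add]
  have hu'_img : (j : Matrix (Fin 3) (Fin 3) F) *ᵥ u' = σ c • u := by
    rw [hju', hxe, hc, map_mul, u_inv hf,
      show u' + σ B • (A • u + B • u') = (A * σ B) • u + (1 + B * σ B) • u' by module,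
      show (1 : F) + B * σ B = 0 by linear_combination hNB + h2, zero_smul, add_zero]
  refine ⟨c, ?_, fun hcF => hxV ⟨σ A, ?_, ?_⟩, j * ut hf e 1,
    M.mul_mem hxM (ut_one_mem hk hO T.he T.ee), ?_, ?_, ?_⟩
  · rw [hc, map_mul, u_inv hf]; linear_combination B * σ B * hNA + hNB
  · exact right_ne_zero_of_mul_eq_one hNA
  · rw [hxe, smul_add, smul_smul, smul_smul, mul_comm (σ A) A, hNA, one_smul]
    exact V.add_mem huV (H.smul _ hcF _ hu'V)
  · rw [mul_mulVec, hs.2, hjmem.2]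
  · have : (ut hf e 1 : Matrix (Fin 3) (Fin 3) F) *ᵥ u = u' := by
      rw [ut_mulVec hf T.ee, hu, hu', u_add_left hf, u_smul_left hf, T.ee, T.de]
      match_scalars
      · linear_combination θ * h2 - hθ1
      · ring
    rw [mul_mulVec, this, hu'_img]
  · have : (ut hf e 1 : Matrix (Fin 3) (Fin 3) F) *ᵥ u' = u := by
      rw [ut_mulVec hf T.ee, hu, hu', u_add_left hf, u_smul_left hf, T.ee, T.de]
      match_scalars
      · linear_combination hθ1 - θ * h2 + h2
      · ring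
    rw [mul_mulVec, this, hu_img]

end Cfsg.Agent.H98.UThree.Sub

namespace Cfsg.Agent.H98.UThree.Sub

open scoped MatrixGroups Matrix
open Matrix Cfsg
open Cfsg.Agent.H95 hiding exists_aniso_perp3 exists_isotropic
open Cfsg.Agent.Symplectic (HSub ut ue EichOK ut_mulVec ue_mulVec ut_mem_iso ut_mem_sl conj_ut
  ut_smul_vec ut_add ut_zero)

variable {F : Type*} [Field F] [Fintype F] {q : ℕ}
  {σ : F ≃+* F} {F₀ : Subfield F}
  {V : AddSubgroup (Fin 3 → F)} {M : Subgroup (GL (Fin 3) F)}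

/-- A group with a monomial action on a basis contains every monomial element. -/
lemma mono_mem {f : (Fin 3 → F) → (Fin 3 → F) → F} (hf : Geo.IsUnitaryForm σ f)
    (hM : M ≤ isoGrp f ⊓ Geo.specialLinear (Fin 3) F) {b : Fin 3 → Fin 3 → F}
    (hON : ∀ i j, f (b i) (b j) = if i = j then 1 else 0)
    (hswap : ∀ i j, ∃ s ∈ M, ∀ k, (s : Matrix (Fin 3) (Fin 3) F) *ᵥ b k = b (Equiv.swap i j k))
    (hdiag : ∀ α β : F, α * σ α = 1 → β * σ β = 1 → ∃ D ∈ M,
      (D : Matrix (Fin 3) (Fin 3) F) *ᵥ b 0 = α • b 0 ∧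
      (D : Matrix (Fin 3) (Fin 3) F) *ᵥ b 1 = β • b 1 ∧
      (D : Matrix (Fin 3) (Fin 3) F) *ᵥ b 2 = (α * β)⁻¹ • b 2)
    {y : GL (Fin 3) F} (hy : y ∈ isoGrp f ⊓ Geo.specialLinear (Fin 3) F)
    (hmono : ∀ i, ∃ (j : Fin 3) (α : F), (y : Matrix (Fin 3) (Fin 3) F) *ᵥ b i = α • b j) :
    y ∈ M := by
  have hii : ∀ i, f (b i) (b i) = 1 := fun i => by rw [hON, if_pos rfl]
  have hnorm : ∀ {y : GL (Fin 3) F}, y ∈ isoGrp f → ∀ {i j : Fin 3} {α : F},
      (y : Matrix (Fin 3) (Fin 3) F) *ᵥ b i = α • b j → α * σ α = 1 := by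
    intro y hy i j α h
    have := mem_isoGrp.1 hy (b i) (b i)
    rw [h, u_smul_left hf, u_smul_right hf, hii, hii, mul_one] at this
    exact this
  have hindep : ∀ p : Fin 3 → F, p 0 • b 0 + p 1 • b 1 + p 2 • b 2 = 0 → p = 0 := fun p h => by
    funext i
    have := congrArg (fun z => f z (b i)) h
    simp only [u_add_left hf, u_smul_left hf, u_zero_left hf, hON] at this
    fin_cases i <;> simpa using this
  -- reduce the first column
  obtain ⟨j, α, hy0⟩ := hmono 0
  obtain ⟨s, hs, hsb⟩ := hswap j 0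
  suffices s * y ∈ M from (M.mul_mem_cancel_left hs).1 this
  set y₁ := s * y with hy₁d
  have hy₁ : y₁ ∈ isoGrp f ⊓ Geo.specialLinear (Fin 3) F := Subgroup.mul_mem _ (hM hs) hy
  have hm₁ : ∀ i, ∃ (k : Fin 3) (β : F), (y₁ : Matrix (Fin 3) (Fin 3) F) *ᵥ b i = β • b k := fun i => by
    obtain ⟨k, β, h⟩ := hmono i
    exact ⟨Equiv.swap j 0 k, β, by rw [hy₁d, mul_mulVec, h, mulVec_smul, hsb]⟩
  have h₀ : (y₁ : Matrix (Fin 3) (Fin 3) F) *ᵥ b 0 = α • b 0 := by
    rw [hy₁d, mul_mulVec, hy0, mulVec_smul, hsb, Equiv.swap_apply_left]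
  obtain ⟨k, β, hy1⟩ := hm₁ 1
  obtain ⟨t, ht, htb⟩ := hswap k 1
  suffices t * y₁ ∈ M from (M.mul_mem_cancel_left ht).1 this
  set y₂ := t * y₁ with hy₂d
  have hy₂ : y₂ ∈ isoGrp f ⊓ Geo.specialLinear (Fin 3) F := Subgroup.mul_mem _ (hM ht) hy₁
  have hk0 : k ≠ 0 := fun h => by
    have h3 := mem_isoGrp.1 hy₁.1 (b 1) (b 0)
    rw [hy1, h₀, u_smul_left hf, u_smul_right hf, h, hii, mul_one, hON,
      if_neg (by decide : (1 : Fin 3) ≠ 0)] at h3
    rcases mul_eq_zero.1 h3 with h4 | h4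
    · exact left_ne_zero_of_mul_eq_one (hnorm hy₁.1 hy1) h4
    · exact right_ne_zero_of_mul_eq_one (hnorm hy₁.1 h₀) h4
  have e0 : (y₂ : Matrix (Fin 3) (Fin 3) F) *ᵥ b 0 = α • b 0 := by
    rw [hy₂d, mul_mulVec, h₀, mulVec_smul, htb,
      Equiv.swap_apply_of_ne_of_ne (Ne.symm hk0) (by decide)]
  have e1 : (y₂ : Matrix (Fin 3) (Fin 3) F) *ᵥ b 1 = β • b 1 := by
    rw [hy₂d, mul_mulVec, hy1, mulVec_smul, htb, Equiv.swap_apply_left]
  obtain ⟨l, γ, e2⟩ : ∃ (l : Fin 3) (γ : F), (y₂ : Matrix (Fin 3) (Fin 3) F) *ᵥ b 2 = γ • b l := by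
    obtain ⟨l, γ, h⟩ := hm₁ 2
    exact ⟨Equiv.swap k 1 l, γ, by rw [hy₂d, mul_mulVec, h, mulVec_smul, htb]⟩
  have hl : l = 2 := by
    have hne : ∀ {i : Fin 3} {δ : F}, (y₂ : Matrix (Fin 3) (Fin 3) F) *ᵥ b i = δ • b i →
        i ≠ 2 → l ≠ i := by
      intro i δ hi hi2 h
      have h3 := mem_isoGrp.1 hy₂.1 (b 2) (b i)
      rw [e2, hi, u_smul_left hf, u_smul_right hf, h, hii, mul_one, hON, if_neg (Ne.symm hi2)] at h3
      rcases mul_eq_zero.1 h3 with h4 | h4
      · exact left_ne_zero_of_mul_eq_one (hnorm hy₂.1 e2) h4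
      · exact right_ne_zero_of_mul_eq_one (hnorm hy₂.1 hi) h4
    have n0 := hne e0 (by decide)
    have n1 := hne e1 (by decide)
    exact (by decide : ∀ i : Fin 3, i ≠ 0 → i ≠ 1 → i = 2) l n0 n1
  rw [hl] at e2
  obtain ⟨D, hD, hD0, hD1, hD2⟩ := hdiag α β (hnorm hy₂.1 e0) (hnorm hy₂.1 e1)
  have hdet := det_cols (b := b) (B := !![α, 0, 0; 0, β, 0; 0, 0, γ]) hindep
    (g := (y₂ : Matrix (Fin 3) (Fin 3) F)) (fun j => by
      fin_cases j
      · simpa using e0
      · simpa using e1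
      · simpa using e2)
  rw [mem_sl3.1 hy₂.2, det_fin_three] at hdet
  simp at hdet
  have hγ : (α * β)⁻¹ = γ := inv_eq_of_mul_eq_one_right hdet.symm
  have hall : y₂ = D := gl_ext fun z => by
    let Q : Matrix (Fin 3) (Fin 3) F := Matrix.of fun i j => b j i
    have hQ : ∀ w : Fin 3 → F, Q *ᵥ w = w 0 • b 0 + w 1 • b 1 + w 2 • b 2 := fun w => by
      funext i
      simp [Q, mulVec, dotProduct, Fin.sum_univ_three]
      ring
    have hQu : IsUnit Q.det := isUnit_iff_ne_zero.2 fun h0 => by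
      obtain ⟨w, hw0, hw⟩ := Matrix.exists_mulVec_eq_zero_iff.2 h0
      exact hw0 (hindep w (hQ w ▸ hw))
    rw [show z = Q *ᵥ (Q⁻¹ *ᵥ z) by rw [mulVec_mulVec, mul_nonsing_inv _ hQu, one_mulVec], hQ]
    simp only [mulVec_add, mulVec_smul, e0, e1, e2, hD0, hD1, hD2, hγ]
  exact hall ▸ hD

/-- Four elements in the smaller field: a group without a new parameter stabilises the rational
vectors up to a scalar. -/
theorem rat_of_tiny {H : HSub σ (hermForm 3 F q) F₀ V} (hF : Fintype.card F = q ^ 2)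
    (hσ : ∀ x, σ x = x ^ q) (hk : Tiny σ F₀) (hO : H.Over M) (hN : NoNew H M)
    (hq9 : 9 ∣ q + 1 → q = 8) (hbig : ∃ b : F, σ b = -b ∧ b ∉ F₀) {g : GL (Fin 3) F} (hg : g ∈ M) :
    g ∈ ratGrp H := by
  classical
  have hf := H.herm
  have h2 := two_eq_zero hk
  by_contra hgn
  obtain ⟨x, u₀, hx0, hxx, hxM, hxV, hu₀V, hu₀, hu₀x⟩ := exists_perp_aniso hk hO hN ⟨g, hg, hgn⟩
  obtain ⟨c₀, hc₀, hc₀1⟩ := H.norm _ (F₀.inv_mem (H.rat u₀ hu₀V u₀ hu₀V))
    (by rw [map_inv₀, u_conj hf])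
  set v := c₀ • u₀ with hvd
  have hvV : v ∈ V := H.smul _ hc₀ _ hu₀V
  have hvv : hermForm 3 F q v v = 1 := by
    rw [hvd, u_smul_left hf, u_smul_right hf, ← mul_assoc, hc₀1, inv_mul_cancel₀ hu₀]
  have hvx : hermForm 3 F q v x = 0 := by rw [hvd, u_smul_left hf, hu₀x, mul_zero]
  obtain ⟨e, he, hPe⟩ :=
    ((H.isProj_id).step H hvV rfl (by rw [hvv]; exact one_ne_zero)).exists_iso H (by simp)
  have hev : hermForm 3 F q e v = 0 := by
    have := H.projStep_perp LinearMap.id (x := v) (by rw [hvv]; exact one_ne_zero) e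
    rwa [hPe] at this
  obtain ⟨d₀, hd₀V, hd₀, hd₀e, hed₀⟩ := H.partner he.1 he.2.1 he.2.2
  set δ := hermForm 3 F q d₀ v with hδ
  have hδF : δ ∈ F₀ := H.rat _ hd₀V _ hvV
  obtain ⟨r, hr, hr1⟩ := H.trace_rat (F₀.mul_mem hδF (H.stable δ hδF))
    (by rw [map_mul, u_inv hf, mul_comm])
  have hve := u_symm_zero hf hev
  have hvd₀ : hermForm 3 F q v d₀ = σ δ := by rw [hδ, u_conj hf]
  have T : Trip H e (d₀ - δ • v + r • e) v := by
    refine ⟨he.1, V.add_mem (V.sub_mem hd₀V (H.smul δ hδF v hvV)) (H.smul r hr e he.1), hvV,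
      he.2.2, ?_, ?_, hve, ?_, hvv⟩ <;>
      simp only [u_add_left hf, u_sub_left hf, u_smul_left hf, u_add_right hf, u_sub_right hf,
        u_smul_right hf, he.2.2, hd₀, hd₀e, hed₀, hev, hve, hvv, hvd₀, ← hδ]
    · linear_combination hr1
    · ring
    · ring
  set d := d₀ - δ • v + r • e
  clear_value d
  obtain ⟨θ, hθ, hθσ, hθN, hθ1, hθ2⟩ := exists_cube_root (H := H) hk
  obtain ⟨c, hcN, hcF, g₁, hg₁, hg₁v, hg₁u, hg₁u'⟩ :=
    exists_diag hF hσ hk hO hN T hθ hθN hθ1 hθ2 hx0 hxx hxM hvx hxV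
  set u := θ • e + d with hu
  set u' := σ θ • e + d with hu'
  have hue : hermForm 3 F q u e = 1 := by
    rw [hu, u_add_left hf, u_smul_left hf, T.ee, T.de]; ring
  set b : Fin 3 → Fin 3 → F := ![v, u, u'] with hb
  have huV : u ∈ V := V.add_mem (H.smul θ hθ e T.he) T.hd
  have hu'V : u' ∈ V := V.add_mem (H.smul _ (H.stable θ hθ) e T.he) T.hd
  have hON : ∀ i j, hermForm 3 F q (b i) (b j) = if i = j then 1 else 0 := by
    have e1 : θ * σ θ * 0 + θ + σ θ = 1 := by linear_combination hθ1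
    intro i j
    fin_cases i <;> fin_cases j <;>
      simp [hb, hu, hu', u_add_left hf, u_add_right hf, u_smul_left hf, u_smul_right hf, T.ee, T.dd,
        T.ed, T.de, T.ve, T.vd, T.ev, T.dv, T.vv, u_inv hf] <;>
      first
        | linear_combination hθ1
        | linear_combination θ * h2
        | linear_combination σ θ * h2
  have hiso : ∀ i j, i ≠ j → H.Iso0 (b i + b j) := fun i j hij => by
    refine ⟨V.add_mem ?_ ?_, fun h => ?_, ?_⟩
    · fin_cases i
      exacts [hvV, huV, hu'V]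
    · fin_cases j
      exacts [hvV, huV, hu'V]
    · have := congrArg (fun z => hermForm 3 F q z (b i)) h
      simp [u_add_left hf, hON, u_zero_left hf, Ne.symm hij] at this
    · simp only [u_add_left hf, u_add_right hf, hON, if_neg hij, if_neg (Ne.symm hij), if_true]
      linear_combination h2
  have hswap : ∀ i j, ∃ s ∈ M, ∀ k, (s : Matrix (Fin 3) (Fin 3) F) *ᵥ b k = b (Equiv.swap i j k) := by
    intro i j
    rcases eq_or_ne i j with rfl | hij
    · exact ⟨1, M.one_mem, fun k => by simp⟩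
    · refine ⟨_, ut_one_mem hk hO (hiso i j hij).1 (hiso i j hij).2.2, fun k => ?_⟩
      rw [ut_mulVec hf (hiso i j hij).2.2, one_mul, u_add_right hf, hON, hON]
      rcases eq_or_ne k i with rfl | hki
      · rw [if_pos rfl, if_neg hij, add_zero, one_smul, Equiv.swap_apply_left, ← add_assoc,
          show b k + b k = (2 : F) • b k by module, h2, zero_smul, zero_add]
      rcases eq_or_ne k j with rfl | hkj
      · rw [if_pos rfl, if_neg hki, zero_add, one_smul, Equiv.swap_apply_right,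
          show b k + (b i + b k) = b i + (2 : F) • b k by module, h2, zero_smul, add_zero]
      · rw [if_neg hki, if_neg hkj, add_zero, zero_smul, add_zero,
          Equiv.swap_apply_of_ne_of_ne hki hkj]
  obtain ⟨s, hs, hsb⟩ := hswap 0 1
  have hsinv : s⁻¹ ∈ M := M.inv_mem hs
  have hsbi : ∀ k, ((s⁻¹ : GL (Fin 3) F) : Matrix (Fin 3) (Fin 3) F) *ᵥ b k = b (Equiv.swap 0 1 k) :=
    fun k => by
      have h := congrArg (fun z => ((s⁻¹ : GL (Fin 3) F) : Matrix (Fin 3) (Fin 3) F) *ᵥ z)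
        (hsb (Equiv.swap 0 1 k))
      simp only [inv_mulVec_mulVec, Equiv.swap_apply_self] at h
      exact h.symm
  have a0 : (g₁ : Matrix (Fin 3) (Fin 3) F) *ᵥ b 0 = b 0 := hg₁v
  have a1 : (g₁ : Matrix (Fin 3) (Fin 3) F) *ᵥ b 1 = σ c • b 1 := hg₁u
  have a2 : (g₁ : Matrix (Fin 3) (Fin 3) F) *ᵥ b 2 = c • b 2 := hg₁u'
  set g₂ := s * g₁ * s⁻¹ with hg₂d
  have hg₂ : g₂ ∈ M := M.mul_mem (M.mul_mem hs hg₁) hsinv
  have c0 : (g₂ : Matrix (Fin 3) (Fin 3) F) *ᵥ b 0 = σ c • b 0 := by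
    rw [hg₂d, mul_mulVec, mul_mulVec, hsbi, Equiv.swap_apply_left, a1, mulVec_smul, hsb,
      Equiv.swap_apply_right]
  have c1 : (g₂ : Matrix (Fin 3) (Fin 3) F) *ᵥ b 1 = b 1 := by
    rw [hg₂d, mul_mulVec, mul_mulVec, hsbi, Equiv.swap_apply_right, a0, hsb, Equiv.swap_apply_left]
  have c2 : (g₂ : Matrix (Fin 3) (Fin 3) F) *ᵥ b 2 = c • b 2 := by
    rw [hg₂d, mul_mulVec, mul_mulVec, hsbi,
      Equiv.swap_apply_of_ne_of_ne (by decide) (by decide), a2, mulVec_smul, hsb,
      Equiv.swap_apply_of_ne_of_ne (by decide) (by decide)]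
  have hc0 : c ≠ 0 := left_ne_zero_of_mul_eq_one hcN
  -- the cube of the new scalar is rational
  have hc3 : c * c * c ∈ F₀ := by
    set D := g₁ * g₂ with hDd
    have hDM : D ∈ M := M.mul_mem hg₁ hg₂
    have D0 : (D : Matrix (Fin 3) (Fin 3) F) *ᵥ b 0 = σ c • b 0 := by
      rw [hDd, mul_mulVec, c0, mulVec_smul, a0]
    have D1 : (D : Matrix (Fin 3) (Fin 3) F) *ᵥ b 1 = σ c • b 1 := by
      rw [hDd, mul_mulVec, c1, a1]
    have D2 : (D : Matrix (Fin 3) (Fin 3) F) *ᵥ b 2 = (c * c) • b 2 := by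
      rw [hDd, mul_mulVec, c2, mulVec_smul, a2, smul_smul]
    have h01 := hiso 0 1 (by decide)
    have hDR : D ∈ ratGrp H := by
      refine cent_rat hk hO hN h01 hDM ?_
      rw [← mul_inv_eq_iff_eq_mul, conj_ut hf (H.iso_of_mem hO hDM) h01.2.2, mulVec_add, D0, D1,
        ← smul_add, ut_smul_vec hf h01.2.2, u_inv hf, mul_comm (σ c), hcN, mul_one]
    obtain ⟨k, hk0, hkV⟩ := hDR
    have r0 := hkV v hvV
    have r2 := hkV u' hu'V
    rw [show (D : Matrix (Fin 3) (Fin 3) F) *ᵥ v = σ c • v from D0, smul_smul] at r0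
    rw [show (D : Matrix (Fin 3) (Fin 3) F) *ᵥ u' = (c * c) • u' from D2, smul_smul] at r2
    have n0 : v ≠ 0 := fun h => by rw [h, u_zero_left hf] at hvv; exact zero_ne_one hvv
    have n2 : u' ≠ 0 := fun h => by
      have h3 := hON 2 2
      rw [show b 2 = 0 from h, u_zero_left hf, if_pos rfl] at h3
      exact zero_ne_one h3
    have hdiv := F₀.div_mem (scal_rat (H := H) hu'V n2 r2) (scal_rat (H := H) hvV n0 r0)
    have hσc0 : σ c ≠ 0 := right_ne_zero_of_mul_eq_one hcN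
    rwa [mul_div_mul_left _ _ hk0, div_eq_iff_mul_eq hσc0 |>.2
      (show c * c * c * σ c = c * c by linear_combination c * c * hcN)] at hdiv
  -- the scalar has order nine
  have hc9 : c ^ 9 = 1 := by
    have h3 := mem_four (H := H) hk hθ hθσ hc3
    have hne : c * c * c ≠ 0 := mul_ne_zero (mul_ne_zero hc0 hc0) hc0
    rcases h3.resolve_left hne with h | h | h <;> rw [show c ^ 9 = (c * c * c) ^ 3 by ring, h]
    · ring
    · linear_combination (θ - 1) * hθ2
    · linear_combination (θ + 2) * hθ2 - h2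
  have hc3' : c ^ 3 ≠ 1 := fun h => hcF (mem_of_cube (H := H) hk (by rw [← h]; ring))
  have hord : orderOf c = 9 := by
    have := orderOf_eq_prime_pow (p := 3) (n := 1) (x := c) (by simpa using hc3') (by simpa using hc9)
    simpa using this
  have hprim : IsPrimitiveRoot c 9 := hord ▸ IsPrimitiveRoot.orderOf c
  have hq8 : q = 8 := hq9 (hord ▸ orderOf_dvd_of_pow_eq_one (by rw [pow_succ, ← hσ, mul_comm, hcN]))
  have hdiag : ∀ α β : F, α * σ α = 1 → β * σ β = 1 → ∃ D ∈ M,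
      (D : Matrix (Fin 3) (Fin 3) F) *ᵥ b 0 = α • b 0 ∧
      (D : Matrix (Fin 3) (Fin 3) F) *ᵥ b 1 = β • b 1 ∧
      (D : Matrix (Fin 3) (Fin 3) F) *ᵥ b 2 = (α * β)⁻¹ • b 2 := by
    intro α β hα hβ
    have hpow : ∀ {γ : F}, γ * σ γ = 1 → ∃ i, γ = (σ c) ^ i := by
      intro γ hγ
      have h9 : (σ γ) ^ 9 = 1 := by
        rw [show (9 : ℕ) = q + 1 by omega, pow_succ, ← hσ, u_inv hf, hγ]
      obtain ⟨i, -, hi⟩ := hprim.eq_pow_of_pow_eq_one h9
      exact ⟨i, by rw [← map_pow, hi, u_inv hf]⟩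
    obtain ⟨i, rfl⟩ := hpow hα
    obtain ⟨j, rfl⟩ := hpow hβ
    have hp : ∀ (g : GL (Fin 3) F) {z : Fin 3 → F} {l : F},
        (g : Matrix (Fin 3) (Fin 3) F) *ᵥ z = l • z →
        ∀ n : ℕ, ((g ^ n : GL (Fin 3) F) : Matrix (Fin 3) (Fin 3) F) *ᵥ z = (l ^ n) • z := by
      intro g z l h n
      induction n with
      | zero => simp
      | succ n ih => rw [pow_succ', mul_mulVec, ih, mulVec_smul, h, smul_smul, pow_succ]
    refine ⟨g₂ ^ i * g₁ ^ j, M.mul_mem (M.pow_mem hg₂ i) (M.pow_mem hg₁ j), ?_, ?_, ?_⟩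
    · rw [mul_mulVec, hp g₁ (l := 1) (by rw [one_smul]; exact a0), mulVec_smul, hp g₂ c0]
      simp
    · rw [mul_mulVec, hp g₁ a1, mulVec_smul, hp g₂ (l := 1) (by rw [one_smul]; exact c1)]
      simp
    · rw [mul_mulVec, hp g₁ a2, mulVec_smul, hp g₂ c2, smul_smul, ← pow_add, ← pow_add,
        ← inv_pow, show (σ c)⁻¹ = c from inv_eq_of_mul_eq_one_left hcN, add_comm]
  -- conjugate to the standard frame
  obtain ⟨⟨P, hP⟩, hPe⟩ := Cfsg.Agent.Unitary.exists_GU_of_ON hF (f := b) hON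
  simp only at hPe
  have hconj : ∀ y, y ∈ G3 F q → P * y * P⁻¹ ∈ G3 F q ∧ P⁻¹ * y * P ∈ G3 F q := by
    rintro y ⟨hy1, hy2⟩
    have h1 : Matrix.GeneralLinearGroup.det y = 1 := hy2
    refine ⟨⟨Subgroup.mul_mem _ (Subgroup.mul_mem _ hP hy1) (Subgroup.inv_mem _ hP), ?_⟩,
      ⟨Subgroup.mul_mem _ (Subgroup.mul_mem _ (Subgroup.inv_mem _ hP) hy1) hP, ?_⟩⟩
    · show Matrix.GeneralLinearGroup.det (P * y * P⁻¹) = 1
      rw [map_mul, map_mul, map_inv, h1, mul_one, mul_inv_cancel]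
    · show Matrix.GeneralLinearGroup.det (P⁻¹ * y * P) = 1
      rw [map_mul, map_mul, map_inv, h1, mul_one, inv_mul_cancel]
  have himg : ∀ (k : GL (Fin 3) F) j, ((P * k * P⁻¹ : GL (Fin 3) F) : Matrix (Fin 3) (Fin 3) F) *ᵥ b j
      = ∑ i, (k : Matrix (Fin 3) (Fin 3) F) i j • b i := by
    intro k j
    rw [← hPe, mulVec_mulVec, ← Units.val_mul, inv_mul_cancel_right, Units.val_mul, ← mulVec_mulVec,
      pi_eq_sum_univ' ((k : Matrix (Fin 3) (Fin 3) F) *ᵥ Pi.single j 1), mulVec_sum]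
    refine Finset.sum_congr rfl fun i _ => ?_
    rw [mulVec_smul, hPe, mulVec_single_one, Matrix.col_apply]
  set M' : Subgroup (GL (Fin 3) F) := M.comap (MulAut.conj P).toMonoidHom
  have hM'mem : ∀ y, y ∈ M' ↔ P * y * P⁻¹ ∈ M := fun y => Iff.rfl
  have hM'G : M' ≤ G3 F q := fun y hy => by
    have := (hconj _ (hO.1 ((hM'mem y).1 hy))).2
    rwa [show P⁻¹ * (P * y * P⁻¹) * P = y by group] at this
  have hmono : ∀ y ∈ G3 F q, Mono (y : Matrix (Fin 3) (Fin 3) F) → y ∈ M' := by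
    intro y hy hm
    refine (hM'mem y).2 (mono_mem hf hO.1 hON hswap hdiag (hconj y hy).1 fun j => ?_)
    obtain ⟨i, hi⟩ := hm j
    exact ⟨i, (y : Matrix (Fin 3) (Fin 3) F) i j, by
      rw [himg, Finset.sum_eq_single i (fun k _ hki => by rw [hi k hki, zero_smul]) (by simp)]⟩
  obtain ⟨t, ht, ht1⟩ := H.trace_rat (r := -1) (F₀.neg_mem F₀.one_mem) (by simp)
  have hok : EichOK hf e v t := ⟨T.ee, T.ve, by rw [T.vv]; linear_combination ht1⟩
  have hne : ∃ y ∈ M', ¬ Mono (y : Matrix (Fin 3) (Fin 3) F) := by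
    set Y := ue hf e v t with hY
    have hYM : Y ∈ M := H.ue_rat hO T.he T.hv ht hok
    refine ⟨P⁻¹ * Y * P, (hM'mem _).2 (by rwa [show P * (P⁻¹ * Y * P) * P⁻¹ = Y by group]), fun hm => ?_⟩
    obtain ⟨i, hi⟩ := hm 0
    have h1 := himg (P⁻¹ * Y * P) 0
    rw [show P * (P⁻¹ * Y * P) * P⁻¹ = Y by group,
      Finset.sum_eq_single i (fun k _ hki => by rw [hi k hki, zero_smul]) (by simp)] at h1
    have hYv : (Y : Matrix (Fin 3) (Fin 3) F) *ᵥ b 0 = v - e := by
      show (Y : Matrix (Fin 3) (Fin 3) F) *ᵥ v = v - e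
      rw [hY, ue_mulVec hf hok, T.ve, T.vv]
      module
    rw [hYv] at h1
    have e0 := congrArg (fun z => hermForm 3 F q z (b 0)) h1
    have e1 := congrArg (fun z => hermForm 3 F q z (b 1)) h1
    simp only [u_sub_left hf, u_smul_left hf, hON] at e0 e1
    have q0 : hermForm 3 F q v (b 0) = 1 := hON 0 0
    have q1 : hermForm 3 F q v (b 1) = 0 := hON 0 1
    have q2 : hermForm 3 F q e (b 0) = 0 := hev
    have q3 : hermForm 3 F q e (b 1) = 1 := by
      show hermForm 3 F q e u = 1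
      rw [← u_conj hf, hue, map_one]
    rw [q0, q2] at e0
    rw [q1, q3] at e1
    by_cases hi0 : i = 0
    · subst hi0; simp at e1
    · simp [hi0] at e0
  have htop := std_frame_maximal hF (by omega) (by omega) hM'G hmono hne
  obtain ⟨β, hβ, hβF⟩ := hbig
  refine hβF (hN e he β hβ ?_)
  have hmem : ut hf e β ∈ G3 F q := ⟨ut_mem_iso hf T.ee hβ, ut_mem_sl hf e β⟩
  have h3 : P⁻¹ * ut hf e β * P ∈ M' := htop ▸ (hconj _ hmem).2
  rwa [hM'mem, show P * (P⁻¹ * ut hf e β * P) * P⁻¹ = ut hf e β by group] at h3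

end Cfsg.Agent.H98.UThree.Sub
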