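import Cfsg.Agent.H98.UThree.Sub.Big
import Cfsg.Agent.H98.UThree.Sub.Mono
import Cfsg.Agent.S5658

/-!
Clause (5) of the maximality theorem for `SU₃(q)`: the subfield groups of odd prime index.
-/

set_option autoImplicit false
set_option linter.unusedSectionVars false

namespace Cfsg.Agent.H98.UThree.Sub

open scoped MatrixGroups Matrix
open Matrix Cfsg
open Cfsg.Agent.H95 hiding exists_aniso_perp3 exists_isotropic
open Cfsg.Agent.Symplectic (HSub ut ut_mulVec ut_mem_iso ut_mem_sl UtIn)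
open Cfsg.Agent.S5650 (V0 mem_V0_smul col_mem mem_subfieldSubgroup_of scalar_of_mem)

variable {F : Type*} [Field F] [Fintype F] {q : ℕ}

lemma q_eq_eight {r : ℕ} (hr : r.Prime) (hro : Odd r) (hq : q = 2 ^ r) (h9 : 9 ∣ q + 1) : q = 8 := by
  have hsix : r % 6 = 1 ∨ r % 6 = 3 ∨ r % 6 = 5 := by
    have := Nat.odd_iff.1 hro
    omega
  have hmod : (2 ^ r + 1) % 9 = (2 ^ (r % 6) + 1) % 9 := by
    conv_lhs => rw [← Nat.div_add_mod r 6, pow_add, pow_mul, Nat.add_mod, Nat.mul_mod, Nat.pow_mod]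
    rw [Nat.add_mod]
    norm_num
  rw [hq] at h9
  have h0 : (2 ^ r + 1) % 9 = 0 := Nat.mod_eq_zero_of_dvd h9
  rw [hmod] at h0
  rcases hsix with h | h | h <;> rw [h] at h0
  · norm_num at h0
  · have h3 : 3 ∣ r := by omega
    rw [hq, ← (Nat.prime_dvd_prime_iff_eq Nat.prime_three hr).1 h3]
    norm_num
  · norm_num at h0

/-- The subfield groups of odd prime index are maximal in `SU₃(q)`. -/
theorem subfield_maximal_three (hF : Fintype.card F = q ^ 2) (hq : 3 ≤ q) (F₀ : Subfield F) (r : ℕ)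
    (P : GL (Fin 3) F) (hr : r.Prime) (hro : Odd r)
    (hcard : Fintype.card F = Nat.card F₀ ^ r)
    (hP : Geo.IsFormRationalStructure (hermForm 3 F q) F₀ 1 P) :
    Geo.IsMaximalIn (G3 F q) (Geo.subfieldSubgroup F₀ P ⊓ G3 F q) := by
  classical
  obtain ⟨σ, hσ, hf⟩ := Cfsg.Agent.Symplectic.isUnitaryForm_hermForm (n := 3) hF
  obtain ⟨h1, h2, h3, h4, h5, h6, h7, hbig⟩ := Cfsg.Agent.S5658.fieldFacts hF F₀ hr hro hcard hσ
  have hspan : Submodule.span F (V0 F₀ P : Set (Fin 3 → F)) = ⊤ := by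
    rw [eq_top_iff]
    intro v _
    have : v = ∑ j, (((P⁻¹ : GL (Fin 3) F) : Matrix (Fin 3) (Fin 3) F) *ᵥ v) j •
        ((P : Matrix (Fin 3) (Fin 3) F) *ᵥ Pi.single j 1) := by
      simp only [← mulVec_smul]
      rw [← mulVec_sum, ← pi_eq_sum_univ', mulVec_inv_mulVec]
    rw [this]
    exact Submodule.sum_mem _ fun j _ =>
      Submodule.smul_mem _ _ (Submodule.subset_span (col_mem F₀ P j))
  have H : HSub σ (hermForm 3 F q) F₀ (V0 F₀ P) :=
    { herm := hf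
      smul := fun c hc v hv => mem_V0_smul F₀ P hc hv
      rat := fun u hu v hv => by
        have := hP _ _ hu hv
        rwa [mulVec_inv_mulVec, mulVec_inv_mulVec, one_mul] at this
      span := hspan
      stable := h1, tr := h2, skew := h3, norm := h4, quad := h5, sq := h6, simple := h7 }
  obtain ⟨e, d, v, T⟩ := exists_trip' H
  obtain ⟨b, hb, hbF⟩ := hbig
  have hGeq : G3 F q = isoGrp (hermForm 3 F q) ⊓ Geo.specialLinear (Fin 3) F := rfl
  refine ⟨lt_of_le_of_ne inf_le_right fun hEq => ?_, fun M hSM hMG => ?_⟩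
  · have hmem : ut hf e b ∈ Geo.subfieldSubgroup F₀ P ⊓ G3 F q :=
      hEq.symm ▸ (⟨ut_mem_iso hf T.ee hb, ut_mem_sl hf e b⟩ : ut hf e b ∈ G3 F q)
    obtain ⟨c, hc, hcv⟩ := scalar_of_mem F₀ P hmem.1
    have k1 := hcv e T.he
    rw [ut_mulVec hf T.ee, T.ee, mul_zero, zero_smul, add_zero] at k1
    have hcF := scal_rat (H := H) T.he T.e_ne k1
    have k2 := H.smul _ (F₀.inv_mem hcF) _ (hcv d T.hd)
    rw [inv_smul_smul₀ (inv_ne_zero hc), ut_mulVec hf T.ee, T.de, mul_one] at k2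
    have k3 := (V0 F₀ P).sub_mem k2 T.hd
    rw [add_sub_cancel_left] at k3
    exact hbF (scal_rat (H := H) T.he T.e_ne k3)
  by_cases hM : M ≤ Geo.subfieldSubgroup F₀ P ⊓ G3 F q
  · exact Or.inl (le_antisymm hM hSM)
  obtain ⟨g, hgM, hgS⟩ := SetLike.not_le_iff_exists.1 hM
  have hO : H.Over M := ⟨hMG, fun k hk hkV => hSM
    ⟨mem_subfieldSubgroup_of F₀ P one_ne_zero fun w hw => by
      rw [_root_.inv_one, one_smul]; exact hkV w hw, hk⟩⟩
  have hgR : g ∉ ratGrp H := fun ⟨c, hc, hcV⟩ =>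
    hgS ⟨mem_subfieldSubgroup_of F₀ P (inv_ne_zero hc) (by simpa using hcV), hMG hgM⟩
  suffices hU : ∃ e, H.Iso0 e ∧ UtIn hf M e by
    obtain ⟨e', he', hU'⟩ := hU
    exact Or.inr (le_antisymm hMG (Cfsg.Agent.H36.SUThreeGeo.su_le_of_ut_three hf hF hq hσ rfl
      fun w hw => full_of_utIn H hO he' hU' hw))
  have hnew : ¬ NoNew H M := by
    intro hN
    by_cases hk : ∃ z ∈ F₀, σ z = z ∧ z ≠ 0 ∧ z ≠ 1
    · exact hgR (rat_of_big hF hσ hO hN hk hgM)
    · have htiny : Tiny σ F₀ := fun z hz hzσ => by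
        by_contra hcon
        push Not at hcon
        exact hk ⟨z, hz, hzσ, hcon.1, hcon.2⟩
      refine hgR (rat_of_tiny hF hσ htiny hO hN (fun h9 => ?_) ⟨b, hb, hbF⟩ hgM)
      obtain ⟨θ, hθ, hθσ⟩ := H.exists_theta
      have hk2 : Nat.card ↥(F₀ ⊓ fixedField σ) = 2 := by
        rw [Nat.card_eq_two_iff]
        refine ⟨0, 1, zero_ne_one, Set.eq_univ_of_forall fun z => ?_⟩
        rcases htiny (z : F) z.2.1 z.2.2 with h | h
        · exact Or.inl (Subtype.ext h)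
        · exact Or.inr (Subtype.ext h)
      have hc := hcard
      rw [card_eq_sq (u_inv hf) F₀ h1 hθ hθσ, hk2, hF, ← pow_mul, mul_comm, pow_mul] at hc
      exact q_eq_eight hr hro (Nat.pow_left_injective two_ne_zero hc) h9
  simp only [NoNew, not_forall] at hnew
  obtain ⟨e', he', a, ha, haM, haF⟩ := hnew
  obtain ⟨d', v', T'⟩ := exists_trip H he'
  refine ⟨e', he', ?_⟩
  by_cases hk : ∃ z ∈ F₀, σ z = z ∧ z ≠ 0 ∧ z ≠ 1
  · exact utIn_of_new hO hk hr hro hcard T' ha haM haF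
  · refine utIn_of_new_tiny (fun z hz hzσ => ?_) hF hσ hO T' ha haM haF
    by_contra hcon
    push Not at hcon
    exact hk ⟨z, hz, hzσ, hcon.1, hcon.2⟩

end Cfsg.Agent.H98.UThree.Sub
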