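import Cfsg.Agent.H98.UThree.Sub.Small

/-!
Four elements in the smaller field, no new parameter: an irrational centre is orthogonal to a rational
anisotropic vector.
-/

set_option autoImplicit false
set_option linter.unusedSectionVars false
set_option linter.style.haveILetI false

namespace Cfsg.Agent.H98.UThree.Sub

open scoped MatrixGroups Matrix
open Matrix Cfsg
open Cfsg.Agent.H95 hiding exists_aniso_perp3 exists_isotropic
open Cfsg.Agent.Symplectic (HSub ut ut_mulVec ut_mem_iso ut_mem_sl conj_ut ut_smul_vec UtIn ut_add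
  ut_zero)

variable {F : Type*} [Field F] [Fintype F]
  {σ : F ≃+* F} {f : (Fin 3 → F) → (Fin 3 → F) → F} {F₀ : Subfield F}
  {V : AddSubgroup (Fin 3 → F)} {M : Subgroup (GL (Fin 3) F)} {H : HSub σ f F₀ V}

include H in
/-- A scalar keeping a rational vector rational. -/
lemma scal_rat {y : Fin 3 → F} (hy : y ∈ V) (hy0 : y ≠ 0) {r : F} (hr : r • y ∈ V) : r ∈ F₀ := by
  obtain ⟨z, hz, hzy⟩ := H.exists_ne hy0
  have h1 := F₀.div_mem (H.rat z hz _ hr) (H.rat z hz y hy)
  rw [u_smul_right H.herm, mul_div_assoc, div_self hzy, mul_one] at h1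
  have := H.stable _ h1
  rwa [u_inv H.herm] at this

/-- The scalar of an element of determinant one stabilising the rational vectors. -/
lemma cube_mem {g : GL (Fin 3) F} (hg : g ∈ Geo.specialLinear (Fin 3) F) {c : F} (_hc : c ≠ 0)
    (h : ∀ x ∈ V, c • ((g : Matrix (Fin 3) (Fin 3) F) *ᵥ x) ∈ V) (H : HSub σ f F₀ V) :
    c * c * c ∈ F₀ := by
  obtain ⟨e, d, v, T⟩ := exists_trip' H
  set B : Matrix (Fin 3) (Fin 3) F := Matrix.of fun i j =>
    f (c • ((g : Matrix (Fin 3) (Fin 3) F) *ᵥ ((![e, d, v] : Fin 3 → Fin 3 → F) j)))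
      ((![d, e, v] : Fin 3 → Fin 3 → F) i) with hB
  have hdet := det_cols (b := ![e, d, v]) (B := B) (fun k => T.indep k)
    (g := c • (g : Matrix (Fin 3) (Fin 3) F)) (fun j => by
      rw [smul_mulVec]
      exact T.expand _)
  rw [Matrix.det_smul, mem_sl3.1 hg, mul_one, Fintype.card_fin] at hdet
  rw [show c * c * c = c ^ 3 by ring, hdet, det_fin_three]
  have hmem : ∀ i j, B i j ∈ F₀ := fun i j => by
    refine H.rat _ (h _ ?_) _ ?_
    · fin_cases j
      exacts [T.he, T.hd, T.hv]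
    · fin_cases i
      exacts [T.hd, T.he, T.hv]
  repeat' first
    | exact hmem _ _
    | apply F₀.add_mem
    | apply F₀.sub_mem
    | apply F₀.mul_mem

variable (hk : Tiny σ F₀)
include hk

include H in
lemma exists_cube_root : ∃ θ ∈ F₀, σ θ = θ + 1 ∧ θ * σ θ = 1 ∧ θ + σ θ = 1 ∧ θ * θ + θ + 1 = 0 := by
  obtain ⟨θ, hθ, hθ1⟩ := H.tr
  have h2 := two_eq_zero hk
  have hθ0 : θ ≠ 0 := by rintro rfl; simp at hθ1
  have hN := norm_one (H := H) hk hθ hθ0
  have hσ : σ θ = θ + 1 := by linear_combination hθ1 - θ * h2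
  refine ⟨θ, hθ, hσ, hN, hθ1, ?_⟩
  rw [hσ] at hN
  linear_combination hN + h2

include H in
/-- The elements of the smaller field. -/
lemma mem_four {θ : F} (hθ : θ ∈ F₀) (hσθ : σ θ = θ + 1) {a : F} (ha : a ∈ F₀) :
    a = 0 ∨ a = 1 ∨ a = θ ∨ a = θ + 1 := by
  have h2 := two_eq_zero hk
  have hf := H.herm
  have hw : σ (a + σ a) = a + σ a := by rw [map_add, u_inv hf, add_comm]
  have hwF := F₀.add_mem ha (H.stable a ha)
  have hu : σ (a + (a + σ a) * θ) = a + (a + σ a) * θ := by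
    rw [map_add, map_mul, hw, hσθ]
    linear_combination σ a * h2
  rcases hk _ (F₀.add_mem ha (F₀.mul_mem hwF hθ)) hu with hu0 | hu0 <;>
    rcases hk _ hwF hw with h | h <;> rw [h] at hu0
  · exact Or.inl (by linear_combination hu0)
  · exact Or.inr (Or.inr (Or.inl (by linear_combination hu0 - θ * h2)))
  · exact Or.inr (Or.inl (by linear_combination hu0))
  · exact Or.inr (Or.inr (Or.inr (by linear_combination hu0 - θ * h2)))

include H in
lemma mem_of_cube {x : F} (hx : x * x * x = 1) : x ∈ F₀ := by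
  obtain ⟨θ, hθ, -, -, -, hθ2⟩ := exists_cube_root (H := H) hk
  have h2 := two_eq_zero hk
  have h : (x - 1) * ((x - θ) * (x - θ - 1)) = 0 := by
    linear_combination hx + (x - 1) * hθ2 + (-x * x * θ + x * θ - x * x + 1) * h2 + 0 * hθ2
  rcases mul_eq_zero.1 h with h | h
  · rw [sub_eq_zero] at h; exact h ▸ F₀.one_mem
  · rcases mul_eq_zero.1 h with h | h
    · rw [sub_eq_zero] at h; exact h ▸ hθ
    · rw [sub_sub, sub_eq_zero] at h; exact h ▸ F₀.add_mem hθ F₀.one_mem

variable (hO : H.Over M) (hN : NoNew H M)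
include hO hN

/-- An element moving a rational point to a rational one stabilises the rational vectors. -/
lemma rat_of_image {e : Fin 3 → F} (he : H.Iso0 e) {g : GL (Fin 3) F} (hg : g ∈ M) {c : F}
    (hc : c ≠ 0) (hce : c • ((g : Matrix (Fin 3) (Fin 3) F) *ᵥ e) ∈ V) : g ∈ ratGrp H := by
  have hf := H.herm
  set w := c • ((g : Matrix (Fin 3) (Fin 3) F) *ᵥ e) with hw
  have hw0 : H.Iso0 w := by
    refine ⟨hce, smul_ne_zero hc fun h => he.2.1 ?_, ?_⟩
    · rw [← inv_mulVec_mulVec g e, h, mulVec_zero]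
    · rw [hw, u_smul_left hf, u_smul_right hf, mem_isoGrp.1 (H.iso_of_mem hO hg), he.2.2]; ring
  have hO' : H.Over (M ⊓ ratGrp H) := ⟨inf_le_left.trans hO.1, fun y hy hyV =>
    ⟨hO.2 y hy hyV, 1, one_ne_zero, fun x hx => by rw [one_smul]; exact hyV x hx⟩⟩
  obtain ⟨s, ⟨hs, hsR⟩, k, hk', hk0, hse⟩ := exists_send H hO' he hw0
  set z := s⁻¹ * g with hz
  have hzM : z ∈ M := M.mul_mem (M.inv_mem hs) hg
  set l := (c * k)⁻¹ with hl
  have hze : (z : Matrix (Fin 3) (Fin 3) F) *ᵥ e = l • e := by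
    rw [hz, mul_mulVec]
    conv_rhs => rw [← inv_mulVec_mulVec s e, hse, hw]
    rw [mulVec_smul, mulVec_smul, smul_smul, smul_smul, show l * k * c = 1 by
      rw [hl, mul_assoc, mul_comm k, inv_mul_cancel₀ (mul_ne_zero hc hk0)], one_smul]
  have h1 := M.mul_mem (M.mul_mem hzM (ut_one_mem hk hO he.1 he.2.2)) (M.inv_mem hzM)
  rw [conj_ut hf (H.iso_of_mem hO hzM) he.2.2, hze, ut_smul_vec hf he.2.2, one_mul] at h1
  have hσN : σ (l * σ l) = l * σ l := by rw [map_mul, u_inv hf, mul_comm]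
  have hl0 : l ≠ 0 := inv_ne_zero (mul_ne_zero hc hk0)
  have hN1 : l * σ l = 1 := (hk _ (hN e he _ (skew_of_fixed hk hσN) h1) hσN).resolve_left
    (mul_ne_zero hl0 ((map_ne_zero_iff σ σ.injective).2 hl0))
  have hcomm : z * ut hf e 1 = ut hf e 1 * z := by
    rw [← mul_inv_eq_iff_eq_mul, conj_ut hf (H.iso_of_mem hO hzM) he.2.2, hze,
      ut_smul_vec hf he.2.2, one_mul, hN1]
  rw [← mul_inv_cancel_left s g]
  exact Subgroup.mul_mem _ hsR (cent_rat hk hO hN he hzM hcomm)

/-- The centre of a transvection stabilising the rational vectors is rational. -/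
lemma centre_rat {x : Fin 3 → F} (hx0 : x ≠ 0) (hxx : f x x = 0)
    (hx : ut H.herm x 1 ∈ ratGrp H) : ∃ c : F, c ≠ 0 ∧ c • x ∈ V := by
  have hf := H.herm
  obtain ⟨c, hc, hcV⟩ := hx
  obtain ⟨e, d, v, T⟩ := exists_trip' H
  have hsq : (ut hf x 1 : GL (Fin 3) F) * ut hf x 1 = 1 := by
    rw [ut_add hf hxx, show (1 : F) + 1 = 0 by linear_combination two_eq_zero hk, ut_zero hf x hxx]
  have h1 := hcV _ (hcV e T.he)
  rw [mulVec_smul, smul_smul, ← mul_mulVec, hsq, Units.val_one, one_mulVec] at h1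
  have hcF : c ∈ F₀ := H.sq c (by rw [sq]; exact scal_rat (H := H) T.he T.e_ne h1)
  obtain ⟨r, hr, hrx⟩ := H.exists_ne hx0
  refine ⟨f r x, hrx, ?_⟩
  have h2 := V.sub_mem (H.smul _ (F₀.inv_mem hcF) _ (hcV r hr)) hr
  rwa [inv_smul_smul₀ hc, ut_mulVec hf hxx, add_sub_cancel_left, one_mul] at h2

/-- Two conjugates of a rational transvection outside the stabiliser of the rational vectors whose
product is a non-trivial element fixing the set of rational vectors. -/
theorem exists_rat_product (hne : ∃ g ∈ M, g ∉ ratGrp H) : ∃ x y : Fin 3 → F,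
    x ≠ 0 ∧ f x x = 0 ∧ ut H.herm x 1 ∈ M ∧ f y y = 0 ∧ ut H.herm y 1 ∈ M ∧
    (¬ ∃ c : F, c ≠ 0 ∧ c • x ∈ V) ∧ ut H.herm x 1 * ut H.herm y 1 ≠ 1 ∧
    ∀ z ∈ V, ((ut H.herm x 1 * ut H.herm y 1 : GL (Fin 3) F) : Matrix (Fin 3) (Fin 3) F) *ᵥ z ∈ V := by
  classical
  have hf := H.herm
  have h2 := two_eq_zero hk
  obtain ⟨e, d, v, T⟩ := exists_trip' H
  obtain ⟨θ, hθ, hθσ, hθN, hθ1, hθ2⟩ := exists_cube_root (H := H) hk
  set tM : M := ⟨ut hf e 1, ut_one_mem hk hO T.he T.ee⟩ with htM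
  set S : Subgroup M := (ratGrp H).subgroupOf M with hS
  let φ : M → M := fun g => g * tM * g⁻¹
  have hφ : ∀ g : M, ((φ g : M) : GL (Fin 3) F)
      = ut hf (((g : GL (Fin 3) F) : Matrix (Fin 3) (Fin 3) F) *ᵥ e) 1 := fun g =>
    conj_ut hf (H.iso_of_mem hO g.2) T.ee 1
  have hgx : ∀ g : M, f (((g : GL (Fin 3) F) : Matrix (Fin 3) (Fin 3) F) *ᵥ e)
      (((g : GL (Fin 3) F) : Matrix (Fin 3) (Fin 3) F) *ᵥ e) = 0 := fun g => by
    rw [mem_isoGrp.1 (H.iso_of_mem hO g.2), T.ee]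
  have hgx0 : ∀ g : M, ((g : GL (Fin 3) F) : Matrix (Fin 3) (Fin 3) F) *ᵥ e ≠ 0 := fun g h =>
    T.e_ne (by rw [← inv_mulVec_mulVec (g : GL (Fin 3) F) e, h, mulVec_zero])
  have hφS : ∀ g : M, φ g ∈ S → g ∈ S := fun g hg => by
    rw [hS, Subgroup.mem_subgroupOf, hφ] at hg
    obtain ⟨c, hc, hce⟩ := centre_rat hk hO hN (hgx0 g) (hgx g) hg
    exact rat_of_image hk hO hN T.iso0 g.2 hc hce
  have hφsq : ∀ g : M, (φ g)⁻¹ = φ g := fun g => by
    refine inv_eq_of_mul_eq_one_right (Subtype.ext ?_)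
    rw [Subgroup.coe_mul, hφ, ut_add hf (hgx g), show (1 : F) + 1 = 0 by linear_combination h2,
      ut_zero hf _ (hgx g)]
    rfl
  haveI : Fintype M := Fintype.ofFinite _
  let Z : Finset M := Finset.univ.filter fun z => φ z = tM
  have hZS : ∀ z ∈ Z, z ∈ S := fun z hz => by
    refine cent_rat hk hO hN T.iso0 z.2 ?_
    have h1 : z * tM * z⁻¹ = tM := (Finset.mem_filter.1 hz).2
    exact congrArg Subtype.val (mul_inv_eq_iff_eq_mul.1 h1)
  have hfib : ∀ g g' : M, φ g = φ g' → g⁻¹ * g' ∈ Z := fun g g' h => by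
    refine Finset.mem_filter.2 ⟨Finset.mem_univ _, ?_⟩
    show g⁻¹ * g' * tM * (g⁻¹ * g')⁻¹ = tM
    calc g⁻¹ * g' * tM * (g⁻¹ * g')⁻¹ = g⁻¹ * (φ g') * g := by show _ = g⁻¹ * (g' * tM * g'⁻¹) * g; group
      _ = g⁻¹ * (φ g) * g := by rw [h]
      _ = tM := by show g⁻¹ * (g * tM * g⁻¹) * g = tM; group
  -- four rational points, no two orthogonal
  set Sf : Finset M := Finset.univ.filter fun g => g ∈ S with hSf
  have hfour : 4 * Z.card ≤ Sf.card := by
    have hz : ∀ t ∈ F₀, t + σ t = 1 → H.Iso0 (v + t • e + d) := fun t ht ht1 => by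
      refine ⟨V.add_mem (V.add_mem T.hv (H.smul t ht e T.he)) T.hd, fun h => ?_, ?_⟩
      · have := congrArg (fun y => f y e) h
        simp [u_add_left hf, u_smul_left hf, T.ve, T.ee, T.de, u_zero_left hf] at this
      · simp only [u_add_left hf, u_add_right hf, u_smul_left hf, u_smul_right hf, T.ee, T.dd,
          T.ed, T.de, T.ve, T.vd, T.ev, T.dv, T.vv]
        linear_combination ht1 + h2
    let P : Fin 4 → Fin 3 → F := ![e, d, v + θ • e + d, v + σ θ • e + d]
    have hP : ∀ i, H.Iso0 (P i) := by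
      intro i
      fin_cases i
      exacts [T.iso0, T.symm.iso0, hz θ hθ hθ1, hz _ (H.stable θ hθ) (by rw [u_inv hf, add_comm, hθ1])]
    have hθ0 : θ ≠ 0 := left_ne_zero_of_mul_eq_one hθN
    have hPne : ∀ i j, i ≠ j → f (P i) (P j) ≠ 0 := by
      intro i j hij
      have e1 : (1 : F) + θ + θ = 1 := by linear_combination θ * h2
      have e2 : (1 : F) + σ θ + σ θ = 1 := by linear_combination σ θ * h2
      fin_cases i <;> fin_cases j <;>
        simp [P, u_add_left hf, u_add_right hf, u_smul_left hf, u_smul_right hf, T.ee, T.dd, T.ed,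
          T.de, T.ve, T.vd, T.ev, T.dv, T.vv, u_inv hf, hθ0, e1, e2] at hij ⊢
    have hO' : H.Over (M ⊓ ratGrp H) := ⟨inf_le_left.trans hO.1, fun y hy hyV =>
      ⟨hO.2 y hy hyV, 1, one_ne_zero, fun x hx => by rw [one_smul]; exact hyV x hx⟩⟩
    choose s hs k hk' hk0 hse using fun i => exists_send H hO' T.iso0 (hP i)
    refine le_trans (le_of_eq ?_) (Finset.card_le_card_of_injOn
      (fun p : Fin 4 × M => (⟨s p.1, (hs p.1).1⟩ : M) * p.2) ?_ ?_
      (s := (Finset.univ : Finset (Fin 4)) ×ˢ Z))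
    · rw [Finset.card_product, Finset.card_univ, Fintype.card_fin]
    · intro p hp
      exact Finset.mem_filter.2 ⟨Finset.mem_univ _,
        S.mul_mem (hs p.1).2 (hZS _ (Finset.mem_product.1 hp).2)⟩
    · rintro ⟨i, z⟩ hi ⟨j, z'⟩ hj h
      simp only at h
      have hij : i = j := by
        by_contra hne
        have key : ∀ (i : Fin 4) (z : M), z ∈ Z →
            φ ((⟨s i, (hs i).1⟩ : M) * z) = φ ⟨s i, (hs i).1⟩ := by
          intro i z hz
          have h1 : z * tM * z⁻¹ = tM := (Finset.mem_filter.1 hz).2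
          show _ * z * tM * (_ * z)⁻¹ = _ * tM * _⁻¹
          calc (⟨s i, (hs i).1⟩ : M) * z * tM * ((⟨s i, (hs i).1⟩ : M) * z)⁻¹
              = (⟨s i, (hs i).1⟩ : M) * (z * tM * z⁻¹) * (⟨s i, (hs i).1⟩ : M)⁻¹ := by group
            _ = _ := by rw [h1]
        have h1 := (key i z (Finset.mem_product.1 hi).2).symm.trans
          ((congrArg φ h).trans (key j z' (Finset.mem_product.1 hj).2))
        have h3 := congrArg (fun g : M => (g : GL (Fin 3) F)) h1
        simp only [hφ, hse, ut_smul_vec hf (hP _).2.2, norm_one (H := H) hk (hk' _) (hk0 _),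
          mul_one] at h3
        have h4 := congrArg (fun g : GL (Fin 3) F => (g : Matrix (Fin 3) (Fin 3) F) *ᵥ P i) h3
        simp only [ut_mulVec hf (hP _).2.2, one_mul, (hP i).2.2, zero_smul] at h4
        have h5 := (smul_eq_zero.1 (add_left_cancel h4).symm).resolve_right (hP j).2.1
        exact hPne i j hne h5
      subst hij
      exact Prod.ext rfl (mul_left_cancel h)
  -- a coset with many conjugates
  obtain ⟨g₀, hg₀, hg₀S⟩ := hne
  set T' : Finset M := Finset.univ.filter fun g => g ∉ S with hT'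
  let mk : M → M ⧸ S := fun g => (φ g : M ⧸ S)
  haveI : Fintype (M ⧸ S) := Fintype.ofFinite _
  set U : Finset (M ⧸ S) := Finset.univ.erase ((1 : M) : M ⧸ S)
  have hU : ∀ g ∈ T', mk g ∈ U := fun g hg => by
    refine Finset.mem_erase.2 ⟨fun h => (Finset.mem_filter.1 hg).2 (hφS g ?_), Finset.mem_univ _⟩
    have := QuotientGroup.eq.1 h
    rwa [mul_one, hφsq] at this
  have hcard : U.card * Sf.card ≤ T'.card := by
    have h1 : Sf.card + T'.card = Fintype.card M := by
      rw [hSf, hT', Finset.card_filter_add_card_filter_not, Finset.card_univ]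
    have h3 := S.index_mul_card
    rw [Subgroup.index, Nat.card_eq_fintype_card (α := M ⧸ S), Nat.card_eq_fintype_card (α := M)] at h3
    have h4 : Nat.card S = Sf.card := by
      rw [hSf, Nat.card_eq_fintype_card, Fintype.card_subtype]
    rw [h4] at h3
    rw [Finset.card_erase_of_mem (Finset.mem_univ _), Finset.card_univ, Nat.sub_mul, one_mul, h3]
    omega
  have hUne : U.Nonempty := ⟨mk ⟨g₀, hg₀⟩, hU _ (Finset.mem_filter.2 ⟨Finset.mem_univ _, hg₀S⟩)⟩
  obtain ⟨K, -, hK⟩ := Finset.exists_le_card_fiber_of_mul_le_card_of_maps_to hU hUne hcard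
  set Fb := T'.filter fun g => mk g = K
  set I := Fb.image φ
  have hI : 4 ≤ I.card := by
    have h1 : Fb.card ≤ Z.card * I.card := by
      refine Finset.card_le_mul_card_image Fb _ fun b hb => ?_
      obtain ⟨g, -, rfl⟩ := Finset.mem_image.1 hb
      refine Finset.card_le_card_of_injOn (fun g' => g⁻¹ * g')
        (fun g' hg' => hfib _ _ (Finset.mem_filter.1 hg').2.symm)
        fun a _ b _ h => mul_left_cancel h
    have h3 : 0 < Z.card := Finset.card_pos.2 ⟨1, Finset.mem_filter.2 ⟨Finset.mem_univ _, by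
      show 1 * tM * (1 : M)⁻¹ = tM; group⟩⟩
    nlinarith
  have hIm : ∀ a ∈ I, ∃ g : M, g ∉ S ∧ φ g = a ∧ (a : M ⧸ S) = K := fun a ha => by
    obtain ⟨g, hg, rfl⟩ := Finset.mem_image.1 ha
    obtain ⟨hg1, hg2⟩ := Finset.mem_filter.1 hg
    exact ⟨g, (Finset.mem_filter.1 hg1).2, rfl, hg2⟩
  have hmem : ∀ a ∈ I, ∀ b ∈ I, a * b ∈ S := fun a ha b hb => by
    obtain ⟨ga, -, rfl, h1⟩ := hIm a ha
    obtain ⟨gb, -, rfl, h3⟩ := hIm b hb
    have := QuotientGroup.eq.1 (h1.trans h3.symm)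
    rwa [hφsq] at this
  obtain ⟨a₀, ha₀⟩ : I.Nonempty := Finset.card_pos.1 (by omega)
  have hsc : ∀ a : M, ∃ c : F, a ∈ I → c ≠ 0 ∧
      ∀ z ∈ V, c • (((a₀ * a : M) : GL (Fin 3) F).val *ᵥ z) ∈ V := fun a => by
    by_cases ha : a ∈ I
    · obtain ⟨c, hc⟩ := hmem a₀ ha₀ a ha
      exact ⟨c, fun _ => hc⟩
    · exact ⟨0, fun h => absurd h ha⟩
  choose c hc using hsc
  have hcube : ∀ a ∈ I, c a * c a * c a = 1 ∨ c a * c a * c a = θ ∨ c a * c a * c a = θ + 1 := by
    intro a ha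
    obtain ⟨hc0, hcV⟩ := hc a ha
    exact (mem_four (H := H) hk hθ hθσ
      (cube_mem (hO.1 (a₀ * a : M).2).2 hc0 hcV H)).resolve_left
        (mul_ne_zero (mul_ne_zero hc0 hc0) hc0)
  -- the product
  suffices ∃ a ∈ I, ∃ b ∈ I, a ≠ b ∧ ∀ z ∈ V, ((a * b : M) : GL (Fin 3) F).val *ᵥ z ∈ V by
    obtain ⟨a, ha, b, hb, hab, hV⟩ := this
    obtain ⟨ga, hga, rfl, -⟩ := hIm a ha
    obtain ⟨gb, -, rfl, -⟩ := hIm b hb
    refine ⟨_, _, hgx0 ga, hgx ga, hφ ga ▸ (φ ga).2, hgx gb, hφ gb ▸ (φ gb).2,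
      fun ⟨k, hk0, hkV⟩ => hga (rat_of_image hk hO hN T.iso0 ga.2 hk0 hkV), fun h => hab ?_, ?_⟩
    · rw [← hφ, ← hφ] at h
      have h1 : φ ga * φ gb = 1 := Subtype.ext h
      exact ((eq_inv_of_mul_eq_one_left h1).trans (hφsq gb))
    · rw [← hφ, ← hφ]
      exact hV
  by_cases h1 : ∃ a ∈ I.erase a₀, c a * c a * c a = 1
  · obtain ⟨a, ha, hca⟩ := h1
    obtain ⟨hne', ha'⟩ := Finset.mem_erase.1 ha
    refine ⟨a₀, ha₀, a, ha', Ne.symm hne', fun z hz => ?_⟩
    obtain ⟨hc0, hcV⟩ := hc a ha'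
    have := H.smul _ (F₀.inv_mem (mem_of_cube (H := H) hk hca)) _ (hcV z hz)
    rwa [inv_smul_smul₀ hc0] at this
  push Not at h1
  obtain ⟨a, ha, b, hb, hab, habc⟩ := Finset.exists_ne_map_eq_of_card_lt_of_maps_to
    (s := I.erase a₀) (t := ({θ, θ + 1} : Finset F)) (f := fun a => c a * c a * c a) (by
      rw [Finset.card_erase_of_mem ha₀]
      have := Finset.card_le_two (a := θ) (b := θ + 1)
      omega) (fun a ha => by
      simpa using (hcube a (Finset.mem_of_mem_erase ha)).resolve_left (h1 a ha))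
  have haI := Finset.mem_of_mem_erase ha
  have hbI := Finset.mem_of_mem_erase hb
  obtain ⟨hca, hcaV⟩ := hc a haI
  obtain ⟨hcb, hcbV⟩ := hc b hbI
  have hr : c b / c a ∈ F₀ := mem_of_cube (H := H) hk (by
    rw [div_mul_div_comm, div_mul_div_comm, div_eq_one_iff_eq (by simp [hca])]
    exact habc.symm)
  obtain ⟨k, hk0, hkV⟩ := hmem a haI b hbI
  have hprod : (a₀ * a) * (a * b) = a₀ * b := by
    obtain ⟨g, -, rfl, -⟩ := hIm a haI
    rw [mul_assoc, ← mul_assoc (φ g)]
    nth_rw 1 [← hφsq g]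
    rw [inv_mul_cancel, one_mul]
  have hkF : k ∈ F₀ := by
    have h3 := hcaV _ (hkV e T.he)
    rw [mulVec_smul, smul_smul, ← mul_mulVec] at h3
    replace h3 : (c a * k) • (((a₀ * b : M) : GL (Fin 3) F).val *ᵥ e) ∈ V := by
      rw [← hprod]; exact h3
    have h4 := scal_rat (H := H) (hcbV e T.he) (fun h => hgx0 (a₀ * b)
      ((smul_eq_zero.1 h).resolve_left hcb)) (r := c a * k / c b) (by
        rw [smul_smul, div_mul_cancel₀ _ hcb]; exact h3)
    have h5 := F₀.mul_mem h4 hr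
    rwa [show c a * k / c b * (c b / c a) = k by field_simp] at h5
  refine ⟨a, haI, b, hbI, hab, fun z hz => ?_⟩
  have := H.smul _ (F₀.inv_mem hkF) _ (hkV z hz)
  rwa [inv_smul_smul₀ hk0] at this

/-- An irrational centre is orthogonal to a rational anisotropic vector. -/
theorem exists_perp_aniso (hne : ∃ g ∈ M, g ∉ ratGrp H) : ∃ x u : Fin 3 → F,
    x ≠ 0 ∧ f x x = 0 ∧ ut H.herm x 1 ∈ M ∧ (¬ ∃ c : F, c ≠ 0 ∧ c • x ∈ V) ∧
    u ∈ V ∧ f u u ≠ 0 ∧ f u x = 0 := by
  classical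
  have hf := H.herm
  have h2 := two_eq_zero hk
  obtain ⟨x, y, hx0, hxx, hxM, hyy, hyM, hxV, hh1, hhV⟩ := exists_rat_product hk hO hN hne
  set a := ut hf x 1 with ha
  set b := ut hf y 1 with hb
  set h := a * b with hh
  have hhM : h ∈ M := M.mul_mem hxM hyM
  have hi := mem_isoGrp.1 (H.iso_of_mem hO hhM)
  -- a rational fixed vector
  obtain ⟨n, hn0, hnx, hny⟩ : ∃ n, n ≠ 0 ∧ f n x = 0 ∧ f n y = 0 := by
    let L : (Fin 3 → F) →ₗ[F] (Fin 2 → F) :=
      { toFun := fun z => ![f z x, f z y]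
        map_add' := fun p q => by funext i; fin_cases i <;> simp [u_add_left hf]
        map_smul' := fun p q => by funext i; fin_cases i <;> simp [u_smul_left hf] }
    have hker : LinearMap.ker L ≠ ⊥ := fun hbot => by
      have := LinearMap.finrank_le_finrank_of_injective (LinearMap.ker_eq_bot.1 hbot)
      simp at this
    obtain ⟨n, hn, hn0⟩ := Submodule.exists_mem_ne_zero_of_ne_bot hker
    exact ⟨n, hn0, congrFun hn 0, congrFun hn 1⟩
  have hhn : (h : Matrix (Fin 3) (Fin 3) F) *ᵥ n = n := by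
    rw [hh, mul_mulVec, hb, ut_mulVec hf hyy, hny, mul_zero, zero_smul, add_zero, ha,
      ut_mulVec hf hxx, hnx, mul_zero, zero_smul, add_zero]
  obtain ⟨u, huV, hu0, hhu⟩ : ∃ u ∈ V, u ≠ 0 ∧ (h : Matrix (Fin 3) (Fin 3) F) *ᵥ u = u := by
    by_contra hcon
    push Not at hcon
    let D : V → V := fun z => ⟨_, V.sub_mem (hhV z.1 z.2) z.2⟩
    have hinj : Function.Injective D := fun z z' he => by
      have h1 : (h : Matrix (Fin 3) (Fin 3) F) *ᵥ (z : Fin 3 → F) - z
          = (h : Matrix (Fin 3) (Fin 3) F) *ᵥ (z' : Fin 3 → F) - z' := congrArg Subtype.val he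
      by_contra hne
      exact hcon _ (V.sub_mem z.2 z'.2) (sub_ne_zero.2 fun e => hne (Subtype.ext e)) (by
        rw [mulVec_sub, sub_eq_sub_iff_sub_eq_sub.1 h1])
    set Lh : (Fin 3 → F) →ₗ[F] (Fin 3 → F) :=
      Matrix.toLin' (h : Matrix (Fin 3) (Fin 3) F) - LinearMap.id
    have hsurj : Function.Surjective Lh := by
      rw [← LinearMap.range_eq_top, eq_top_iff, ← H.span, Submodule.span_le]
      intro z hz
      obtain ⟨z', hz'⟩ := Finite.surjective_of_injective hinj ⟨z, hz⟩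
      exact ⟨z', congrArg Subtype.val hz'⟩
    refine hn0 ((LinearMap.injective_iff_surjective.2 hsurj) ?_)
    simp [Lh, hhn]
  set u' := (a : Matrix (Fin 3) (Fin 3) F) *ᵥ u with hu'
  have haa : a * a = 1 := by
    rw [ha, ut_add hf hxx, show (1 : F) + 1 = 0 by linear_combination h2, ut_zero hf x hxx]
  have hbb : b * b = 1 := by
    rw [hb, ut_add hf hyy, show (1 : F) + 1 = 0 by linear_combination h2, ut_zero hf y hyy]
  have hhu' : (h : Matrix (Fin 3) (Fin 3) F) *ᵥ u' = u' := by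
    have e1 : ((h⁻¹ : GL (Fin 3) F) : Matrix (Fin 3) (Fin 3) F) *ᵥ u = u := by
      conv_lhs => rw [← hhu]
      rw [inv_mulVec_mulVec]
    have e2 : h * a = a * h⁻¹ := by
      rw [hh, _root_.mul_inv_rev, inv_eq_of_mul_eq_one_right haa, inv_eq_of_mul_eq_one_right hbb,
        mul_assoc]
    rw [hu', ← mul_mulVec, e2, mul_mulVec, e1]
  by_cases hprop : ∃ k : F, u' = k • u
  · obtain ⟨k, hk'⟩ := hprop
    have hux : f u x = 0 := by
      by_contra hne'
      rw [hu', ha, ut_mulVec hf hxx, one_mul] at hk'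
      have h1 : f u x • x = (k - 1) • u := by rw [sub_smul, one_smul, ← hk', add_sub_cancel_left]
      refine hxV ?_
      have hk1 : k - 1 ≠ 0 := fun h3 => by
        rw [h3, zero_smul, smul_eq_zero] at h1
        exact h1.elim hne' hx0
      refine ⟨f u x / (k - 1), div_ne_zero hne' hk1, ?_⟩
      rw [div_eq_inv_mul, ← smul_smul, h1, inv_smul_smul₀ hk1]
      exact huV
    refine ⟨x, u, hx0, hxx, hxM, hxV, huV, fun huu => hxV ?_, hux⟩
    refine centre_rat hk hO hN hx0 hxx (cent_rat hk hO hN ⟨huV, hu0, huu⟩ hxM ?_)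
    rw [← mul_inv_eq_iff_eq_mul, conj_ut hf (H.iso_of_mem hO hxM) huu, ut_mulVec hf hxx, hux,
      mul_zero, zero_smul, add_zero]
  exfalso
  push Not at hprop
  -- the image of `h - 1` is a rational line
  obtain ⟨r, hr, hz0⟩ : ∃ r ∈ V, (h : Matrix (Fin 3) (Fin 3) F) *ᵥ r - r ≠ 0 := by
    by_contra hcon
    push Not at hcon
    refine hh1 (gl_ext fun w => ?_)
    rw [Units.val_one, one_mulVec]
    have hL : Matrix.toLin' (h : Matrix (Fin 3) (Fin 3) F) = LinearMap.id :=
      LinearMap.ext_on H.span fun w hw => by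
        rw [Matrix.toLin'_apply, LinearMap.id_apply]; exact sub_eq_zero.1 (hcon w hw)
    simpa using LinearMap.congr_fun hL w
  set z := (h : Matrix (Fin 3) (Fin 3) F) *ᵥ r - r with hz
  have hzV : z ∈ V := V.sub_mem (hhV r hr) hr
  have hzu : f z u = 0 := by
    rw [hz, u_sub_left hf]
    conv_lhs => arg 1; rw [← hhu]
    rw [hi, sub_self]
  have hzu' : f z u' = 0 := by
    rw [hz, u_sub_left hf]
    conv_lhs => arg 1; rw [← hhu']
    rw [hi, sub_self]
  have hind : ∀ p p' : F, p • u + p' • u' = 0 → p = 0 ∧ p' = 0 := fun p p' e => by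
    rcases eq_or_ne p' 0 with rfl | hp'
    · rw [zero_smul, add_zero, smul_eq_zero] at e
      exact ⟨e.resolve_right hu0, rfl⟩
    · exact absurd (by
        rw [neg_div, neg_smul, ← inv_mul_eq_div, ← smul_smul, eq_neg_iff_add_eq_zero, add_comm]
        have := congrArg (fun w => p'⁻¹ • w) e
        simpa [smul_add, inv_smul_smul₀ hp'] using this) (hprop (-p / p'))
  by_cases hzz : f z z = 0
  · obtain ⟨d, v, T⟩ := exists_trip H ⟨hzV, hz0, hzz⟩
    have dec : ∀ w : Fin 3 → F, f z w = 0 → w = f w d • z + f w v • v := fun w hw => by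
      conv_lhs => rw [T.expand w, u_symm_zero hf hw, zero_smul, add_zero]
    have d1 := dec u hzu
    have d2 := dec u' hzu'
    set α := f u d
    set γ := f u v
    set α' := f u' d
    set γ' := f u' v
    have hD : α * γ' - γ * α' ≠ 0 := fun hD0 => by
      rcases eq_or_ne γ 0 with hg | hg
      · have hα : α ≠ 0 := fun h0 => hu0 (by rw [d1, h0, hg]; simp)
        rw [hg, zero_mul, sub_zero] at hD0
        exact hprop (α' / α) (by
          rw [d1, d2, hg, (mul_eq_zero.1 hD0).resolve_left hα]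
          simp [smul_smul, hα])
      · exact hprop (γ' / γ) (by
          rw [d1, d2, smul_add, smul_smul, smul_smul, div_mul_cancel₀ _ hg,
            show γ' / γ * α = α' by field_simp; linear_combination hD0])
    set D := α * γ' - γ * α' with hDd
    have hhz : (h : Matrix (Fin 3) (Fin 3) F) *ᵥ z = z := by
      have e1 : z = (γ' / D) • u + (-γ / D) • u' := by
        rw [d1, d2]
        match_scalars <;> field_simp <;> linear_combination hDd
      rw [e1, mulVec_add, mulVec_smul, mulVec_smul, hhu, hhu']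
    have hhv : (h : Matrix (Fin 3) (Fin 3) F) *ᵥ v = v := by
      have e1 : v = (-α' / D) • u + (α / D) • u' := by
        rw [d1, d2]
        match_scalars <;> field_simp <;> linear_combination hDd
      rw [e1, mulVec_add, mulVec_smul, mulVec_smul, hhu, hhu']
    obtain ⟨s, hsσ, hs⟩ := T.eq_ut (H.iso_of_mem hO hhM) hhz hhv
    have hs1 : s = 1 := (hk s (hN z T.iso0 s hsσ (hs ▸ hhM)) (fixed_of_skew hk hsσ)).resolve_left
      fun h0 => hh1 (by rw [hs, h0, ut_zero hf z T.ee])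
    refine hxV (centre_rat hk hO hN hx0 hxx (cent_rat hk hO hN T.iso0 hxM ?_))
    rw [show ut H.herm z 1 = h by rw [hs, hs1]]
    show a * h = h * a
    have hhh : h * h = 1 := by
      rw [hs, hs1, ut_add hf T.ee, show (1 : F) + 1 = 0 by linear_combination h2, ut_zero hf z T.ee]
    have hbab : b * a = h := by
      rw [← inv_eq_of_mul_eq_one_right hhh]
      show b * a = (a * b)⁻¹
      rw [_root_.mul_inv_rev, inv_eq_of_mul_eq_one_right haa, inv_eq_of_mul_eq_one_right hbb]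
    calc a * h = b := by rw [hh, ← mul_assoc, haa, one_mul]
      _ = h * a := by rw [← hbab, mul_assoc, haa, mul_one]
  · -- a homology of determinant one
    have hind3 : ∀ p : Fin 3 → F, p 0 • u + p 1 • u' + p 2 • z = 0 → p = 0 := fun p e => by
      have e1 := congrArg (fun w => f w z) e
      simp [u_add_left hf, u_smul_left hf, u_symm_zero hf hzu, u_symm_zero hf hzu', hzz,
        u_zero_left hf] at e1
      rw [e1, zero_smul, add_zero] at e
      obtain ⟨e2, e3⟩ := hind _ _ e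
      funext i
      fin_cases i
      exacts [e2, e3, e1]
    let Q : Matrix (Fin 3) (Fin 3) F := Matrix.of fun i j => (![u, u', z] : Fin 3 → Fin 3 → F) j i
    have hQ : ∀ w : Fin 3 → F, Q *ᵥ w = w 0 • u + w 1 • u' + w 2 • z := fun w => by
      funext i
      simp [Q, mulVec, dotProduct, Fin.sum_univ_three]
      ring
    have hQu : IsUnit Q.det := isUnit_iff_ne_zero.2 fun h0 => by
      obtain ⟨w, hw0, hw⟩ := Matrix.exists_mulVec_eq_zero_iff.2 h0
      exact hw0 (hind3 w (hQ w ▸ hw))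
    have hspan : ∀ w, ∃ p : Fin 3 → F, w = p 0 • u + p 1 • u' + p 2 • z := fun w =>
      ⟨Q⁻¹ *ᵥ w, by rw [← hQ, mulVec_mulVec, mul_nonsing_inv _ hQu, one_mulVec]⟩
    set z' := (h : Matrix (Fin 3) (Fin 3) F) *ᵥ z with hz'
    obtain ⟨p, hp⟩ := hspan z'
    have hpz : z' = p 2 • z := by
      set w := z' - p 2 • z with hw
      have hwu : f w u = 0 := by
        rw [hw, u_sub_left hf, u_smul_left hf, hzu, mul_zero, sub_zero, hz']
        conv_lhs => arg 2; rw [← hhu]
        rw [hi, hzu]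
      have hwu' : f w u' = 0 := by
        rw [hw, u_sub_left hf, u_smul_left hf, hzu', mul_zero, sub_zero, hz']
        conv_lhs => arg 2; rw [← hhu']
        rw [hi, hzu']
      have hwz : f w z = 0 := by
        have : w = p 0 • u + p 1 • u' := by rw [hw, hp, add_sub_cancel_right]
        rw [this, u_add_left hf, u_smul_left hf, u_smul_left hf, u_symm_zero hf hzu,
          u_symm_zero hf hzu', mul_zero, mul_zero, add_zero]
      suffices w = 0 by rwa [hw, sub_eq_zero] at this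
      by_contra hw0
      obtain ⟨⟨w', hw'⟩, -⟩ := hf.nondegenerate w hw0
      obtain ⟨p', rfl⟩ := hspan w'
      refine hw' ?_
      simp [u_add_left hf, u_smul_left hf, u_symm_zero hf hwu, u_symm_zero hf hwu',
        u_symm_zero hf hwz]
    have hdet := det_cols (b := ![u, u', z]) (B := !![1, 0, 0; 0, 1, 0; 0, 0, p 2])
      (fun q => hind3 q) (g := (h : Matrix (Fin 3) (Fin 3) F)) (fun j => by
        fin_cases j
        · simpa using hhu
        · simpa using hhu'
        · simpa using hpz)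
    rw [mem_sl3.1 (hO.1 hhM).2, det_fin_three] at hdet
    simp at hdet
    rw [← hdet, one_smul] at hpz
    refine hh1 (gl_ext fun w => ?_)
    obtain ⟨q, rfl⟩ := hspan w
    rw [Units.val_one, one_mulVec, mulVec_add, mulVec_add, mulVec_smul, mulVec_smul, mulVec_smul,
      hhu, hhu', ← hz', hpz]

end Cfsg.Agent.H98.UThree.Sub
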