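import Cfsg.Agent.H98.UThree.Sub.Fixer

/-!
The smaller field with four elements: a new parameter gives all of them, and without one the
centraliser of a rational transvection stabilises the rational vectors.
-/

set_option autoImplicit false
set_option linter.unusedSectionVars false

namespace Cfsg.Agent.H98.UThree.Sub

open scoped MatrixGroups Matrix
open Matrix Cfsg
open Cfsg.Agent.H95 hiding exists_aniso_perp3 exists_isotropic
open Cfsg.Agent.Symplectic (HSub ut ut_mulVec ut_mem_iso ut_mem_sl conj_ut ut_smul_vec UtIn ut_add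
  ut_zero)

variable {F : Type*} [Field F] [Fintype F]
  {σ : F ≃+* F} {f : (Fin 3 → F) → (Fin 3 → F) → F} {F₀ : Subfield F}
  {V : AddSubgroup (Fin 3 → F)} {M : Subgroup (GL (Fin 3) F)} {H : HSub σ f F₀ V}

/-- The fixed elements of the smaller field are `0` and `1`. -/
def Tiny (σ : F ≃+* F) (F₀ : Subfield F) : Prop := ∀ z ∈ F₀, σ z = z → z = 0 ∨ z = 1

variable (hk : Tiny σ F₀)
include hk

lemma two_eq_zero : (2 : F) = 0 :=
  (hk 2 (natCast_mem F₀ 2) (map_ofNat σ 2)).resolve_right fun h =>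
    one_ne_zero (α := F) (by linear_combination h)

lemma fixed_of_skew {a : F} (h : σ a = -a) : σ a = a := by
  linear_combination h - a * two_eq_zero hk

lemma skew_of_fixed {a : F} (h : σ a = a) : σ a = -a := by
  linear_combination h + a * two_eq_zero hk

include H in
lemma norm_one {x : F} (hx : x ∈ F₀) (hx0 : x ≠ 0) : x * σ x = 1 :=
  (hk _ (F₀.mul_mem hx (H.stable x hx)) (by rw [map_mul, u_inv H.herm, mul_comm])).resolve_left
    (mul_ne_zero hx0 ((map_ne_zero_iff σ σ.injective).2 hx0))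

lemma one_skew : σ (1 : F) = -1 := skew_of_fixed hk (map_one σ)

lemma ut_one_mem (hO : H.Over M) {e : Fin 3 → F} (he : e ∈ V) (hee : f e e = 0) :
    ut H.herm e 1 ∈ M := H.ut_rat hO he hee F₀.one_mem (one_skew hk)

/-- The fixers of a rational vector of length one moving a rational point projectively only by
scalars of norm one are transvections. -/
lemma fix_v_ut (hO : H.Over M) {e d v : Fin 3 → F} (T : Trip H e d v) {y : GL (Fin 3) F}
    (hy : y ∈ Plane.fixVec M v) {l : F} (he : (y : Matrix (Fin 3) (Fin 3) F) *ᵥ e = l • e)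
    (hl : l * σ l = 1) : ∃ a, y = ut H.herm e a := by
  obtain ⟨α, β, γ, -, h1, -, -, h4⟩ := T.tri (hO.1 hy.1) he (μ := 1) (ν := 0)
    (by rw [hy.2, one_smul, zero_smul, add_zero])
  have hβ : β = l := by linear_combination l * h1 - β * hl
  have hl1 : l = 1 := by
    have h5 : (l - 1) * (l - 1) = 0 := by
      linear_combination h4 - l * hβ + (1 - l) * two_eq_zero hk
    exact sub_eq_zero.1 (mul_self_eq_zero.1 h5)
  obtain ⟨a, -, ha⟩ := T.eq_ut (H.iso_of_mem hO hy.1) (by rw [he, hl1, one_smul]) hy.2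
  exact ⟨a, ha⟩

/-- A new parameter gives every parameter. -/
theorem utIn_of_new_tiny {q : ℕ} (hF : Fintype.card F = q ^ 2) (hσ : ∀ x, σ x = x ^ q)
    (hO : H.Over M) {e d v : Fin 3 → F} (T : Trip H e d v) {a : F} (ha : σ a = -a)
    (haM : ut H.herm e a ∈ M) (haF : a ∉ F₀) : UtIn H.herm M e := by
  have hf := H.herm
  have h2 := two_eq_zero hk
  obtain ⟨y, hy, l, hl, hN⟩ : ∃ y ∈ Plane.fixVec M v, ∃ l : F,
      (y : Matrix (Fin 3) (Fin 3) F) *ᵥ e = l • e ∧ l * σ l ≠ 1 := by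
    by_contra hcon
    push Not at hcon
    have hU : ∀ y ∈ Plane.fixVec M v,
        (∃ l : F, (y : Matrix (Fin 3) (Fin 3) F) *ᵥ e = l • e) → ∃ a, y = ut hf e a :=
      fun y hy ⟨l, hl⟩ => fix_v_ut hk hO T hy hl (hcon y hy l hl)
    have hmem : ∀ b, ut hf e b ∈ M → ut hf e b ∈ Plane.fixVec M v := fun b hb =>
      ⟨hb, by rw [ut_mulVec hf T.ee, T.ve, mul_zero, zero_smul, add_zero]⟩
    have h3 : 3 ≤ Nat.card {b : F // ut hf e b ∈ Plane.fixVec M v} := by
      classical
      set R : Finset F := {0, 1, a}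
      have hR : R.card = 3 := Finset.card_eq_three.2 ⟨0, 1, a, zero_ne_one,
        fun h => haF (h ▸ F₀.zero_mem), fun h => haF (h ▸ F₀.one_mem), rfl⟩
      have hsub : ∀ r ∈ R, ut hf e r ∈ Plane.fixVec M v := by
        intro r hr
        simp only [R, Finset.mem_insert, Finset.mem_singleton] at hr
        rcases hr with rfl | rfl | rfl
        exacts [hmem 0 (by rw [ut_zero hf e T.ee]; exact M.one_mem),
          hmem 1 (ut_one_mem hk hO T.he T.ee), hmem r haM]
      have := Nat.card_le_card_of_injective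
        (fun r : R => (⟨r.1, hsub r.1 r.2⟩ : {b : F // ut hf e b ∈ Plane.fixVec M v}))
        fun r r' h => Subtype.ext (congrArg (fun k : {b : F // ut hf e b ∈ Plane.fixVec M v} =>
          (k : F)) h)
      rwa [Nat.card_eq_finsetCard, hR] at this
    obtain ⟨l, hl⟩ := T.plane.fix_of_three hf hO.1 hF hσ hU h3 (y := ut hf d 1)
      ⟨ut_one_mem hk hO T.hd T.dd, by rw [ut_mulVec hf T.dd, T.vd, mul_zero, zero_smul, add_zero]⟩
    have := congrArg (fun z => f z e) hl
    simp only [ut_mulVec hf T.dd, u_add_left hf, u_smul_left hf, T.ee, T.de, T.ed, mul_zero,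
      mul_one, zero_add] at this
    exact one_ne_zero this
  set c := l * σ l with hc
  have hcσ : σ c = c := by rw [hc, map_mul, u_inv hf, mul_comm]
  have hl0 : l ≠ 0 := fun h => T.e_ne (by
    rw [← inv_mulVec_mulVec y e, hl, h, zero_smul, mulVec_zero])
  have hc0 : c ≠ 0 := mul_ne_zero hl0 ((map_ne_zero_iff σ σ.injective).2 hl0)
  clear_value c
  let A : Set F := {b | σ b = b ∧ ut hf e b ∈ M}
  have hA0 : (0 : F) ∈ A := ⟨map_zero σ, by rw [ut_zero hf e T.ee]; exact M.one_mem⟩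
  have hA1 : (1 : F) ∈ A := ⟨map_one σ, ut_one_mem hk hO T.he T.ee⟩
  have hAadd : ∀ b ∈ A, ∀ b' ∈ A, b + b' ∈ A := fun b hb b' hb' =>
    ⟨by rw [map_add, hb.1, hb'.1], by rw [← ut_add hf T.ee]; exact M.mul_mem hb.2 hb'.2⟩
  have hAc : ∀ b ∈ A, c * b ∈ A := fun b hb => ⟨by rw [map_mul, hcσ, hb.1], by
    have h1 := M.mul_mem (M.mul_mem hy.1 hb.2) (M.inv_mem hy.1)
    rw [conj_ut hf (H.iso_of_mem hO hy.1) T.ee, hl, ut_smul_vec hf T.ee] at h1
    rwa [hc, mul_comm]⟩
  have hAneg : ∀ b : F, -b = b := fun b => by linear_combination -b * h2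
  let C : Set F := {x | ∀ m ∈ F₀, ∀ b ∈ A, (m * x + σ (m * x)) * b ∈ A}
  have htr : ∀ m ∈ F₀, m + σ m = 0 ∨ m + σ m = 1 := fun m hm =>
    hk _ (F₀.add_mem hm (H.stable m hm)) (by rw [map_add, u_inv hf, add_comm])
  have hC1 : ∀ x ∈ F₀, x ∈ C := fun x hx m hm b hb => by
    rcases htr _ (F₀.mul_mem hm hx) with h | h
    · rw [h, zero_mul]; exact hA0
    · rw [h, one_mul]; exact hb
  have hCadd : ∀ x ∈ C, ∀ x' ∈ C, x + x' ∈ C := fun x hx x' hx' m hm b hb => by
    have := hAadd _ (hx m hm b hb) _ (hx' m hm b hb)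
    convert this using 1
    simp only [mul_add, map_add]; ring
  let S : Subring F :=
    { carrier := {z | ∀ x ∈ C, z * x ∈ C}
      mul_mem' := fun {a b} ha hb x hx => by rw [mul_assoc]; exact ha _ (hb x hx)
      one_mem' := fun x hx => by rwa [one_mul]
      zero_mem' := fun x _ => by rw [zero_mul]; exact hC1 0 F₀.zero_mem
      add_mem' := fun {a b} ha hb x hx => by rw [add_mul]; exact hCadd _ (ha x hx) _ (hb x hx)
      neg_mem' := fun {a} ha x hx => by rw [hAneg]; exact ha x hx }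
  let K : Subfield F :=
    { S with
      inv_mem' := fun x hx => by
        rcases eq_or_ne x 0 with rfl | hx0
        · rw [_root_.inv_zero]; exact S.zero_mem
        · have h1 : x ^ (Fintype.card F - 1) = 1 := FiniteField.pow_card_sub_one_eq_one x hx0
          have h3 := Fintype.one_lt_card (α := F)
          rw [show Fintype.card F - 1 = Fintype.card F - 2 + 1 by omega, pow_succ] at h1
          rw [← eq_inv_of_mul_eq_one_left h1]
          exact pow_mem (show x ∈ S from hx) _ }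
  have hF₀K : F₀ ≤ K := fun z hz x hx m hm b hb => by
    have := hx (m * z) (F₀.mul_mem hm hz) b hb
    rwa [mul_assoc] at this
  have hcK : c ∈ K := fun x hx m hm b hb => by
    have := hx m hm _ (hAc b hb)
    convert this using 1
    rw [show σ (m * (c * x)) = c * σ (m * x) by rw [map_mul, map_mul, map_mul, hcσ]; ring]
    ring
  have hcF : c ∉ F₀ := fun h => (hk c h hcσ).elim hc0 hN
  have hK : K = ⊤ := (H.simple K hF₀K).resolve_left fun h => hcF (h ▸ hcK)
  intro b hb
  obtain ⟨θ, hθ, hθ1⟩ := H.tr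
  have hbθ : b * θ ∈ C := by
    have : b * θ ∈ K := hK ▸ Subfield.mem_top _
    simpa using this 1 (hC1 1 F₀.one_mem)
  have hfin := (hbθ 1 F₀.one_mem 1 hA1).2
  convert hfin using 2
  rw [one_mul, mul_one, map_mul, fixed_of_skew hk hb]
  linear_combination -b * hθ1

/-- The centraliser of a rational transvection stabilises the rational vectors. -/
theorem cent_rat (hO : H.Over M) (hN : NoNew H M) {e : Fin 3 → F} (he : H.Iso0 e)
    {y : GL (Fin 3) F} (hy : y ∈ M) (hc : y * ut H.herm e 1 = ut H.herm e 1 * y) :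
    y ∈ ratGrp H := by
  have hf := H.herm
  have h2 := two_eq_zero hk
  obtain ⟨d, v, T⟩ := exists_trip H he
  set x := (y : Matrix (Fin 3) (Fin 3) F) *ᵥ e with hx
  have hut : ut hf x 1 = ut hf e 1 := by
    rw [hx, ← conj_ut hf (H.iso_of_mem hO hy) T.ee, hc, mul_inv_cancel_right]
  have hxx : f x x = 0 := by rw [hx, mem_isoGrp.1 (H.iso_of_mem hO hy), T.ee]
  have hx0 : x ≠ 0 := fun h => T.e_ne (by rw [← inv_mulVec_mulVec y e, ← hx, h, mulVec_zero])
  have happ : ∀ z, f z x • x = f z e • e := fun z => by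
    have := congrArg (fun g : GL (Fin 3) F => (g : Matrix (Fin 3) (Fin 3) F) *ᵥ z) hut
    simpa [ut_mulVec hf hxx, ut_mulVec hf T.ee] using this
  have h0 := happ d
  rw [T.de, one_smul] at h0
  have hdx : f d x ≠ 0 := fun h => T.e_ne (by rw [← h0, h, zero_smul])
  obtain ⟨l, hl⟩ : ∃ l : F, (y : Matrix (Fin 3) (Fin 3) F) *ᵥ e = l • e :=
    ⟨(f d x)⁻¹, by rw [← hx, ← h0, inv_smul_smul₀ hdx]⟩
  have hNl : l * σ l = 1 := by
    have := congrArg (fun z => f z d) h0
    simp [hx, hl, u_smul_left hf, u_smul_right hf, T.ed, T.de] at this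
    linear_combination this
  obtain ⟨μ, ν, hyv, -, hμ, hν, -⟩ := fixer_rat hO hN T hy hl
  obtain ⟨α, β, γ, hyd, hβ, hγ, hα, hdet⟩ := T.tri (hO.1 hy) hl hyv
  have hl0 : l ≠ 0 := left_ne_zero_of_mul_eq_one hNl
  have hσl : σ l = l⁻¹ := eq_inv_of_mul_eq_one_right hNl
  have hβl : β = l := by
    have := hβ
    rw [hσl] at this
    field_simp at this
    linear_combination this
  subst hβl
  -- coefficients of `β⁻¹ y`
  set μ' := σ β * μ with hμ'
  set ν' := σ β * ν with hν'
  set γ' := σ β * γ with hγ'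
  set α' := σ β * α with hα'
  have hy' : ∀ (a : F), a = β * (σ β * a) := fun a => by linear_combination -a * hNl
  have hμ'0 : σ μ' ≠ 0 := by
    refine (map_ne_zero_iff σ σ.injective).2 fun h => ?_
    have : μ = 0 := by rw [hy' μ, ← hμ', h, mul_zero]
    rw [this] at hdet; simp at hdet
  have hγF : γ' ∈ F₀ := by
    have h1 : σ ν' + γ' * σ μ' = 0 := by
      rw [hγ', hν', hμ']; simp only [map_mul, u_inv hf]
      linear_combination hγ + γ * σ μ * hNl
    have h3 : γ' = -σ ν' / σ μ' := by rw [eq_div_iff hμ'0]; linear_combination h1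
    rw [h3]
    exact F₀.div_mem (F₀.neg_mem (H.stable _ hν)) (H.stable _ hμ)
  have hαγ : α' + σ α' + γ' * σ γ' = 0 := by
    rw [hγ', hα']; simp only [map_mul, u_inv hf]
    linear_combination hα + γ * σ γ * hNl
  obtain ⟨α₀, hα₀, hα₀1⟩ := H.trace_rat (r := -(γ' * σ γ'))
    (F₀.neg_mem (F₀.mul_mem hγF (H.stable _ hγF))) (by rw [map_neg, map_mul, u_inv hf, mul_comm])
  set a := α' + α₀ with ha
  have haσ : σ a = -a := by
    rw [ha, map_add]; linear_combination hαγ + hα₀1 - γ' * σ γ' * h2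
  have hl3 : β * β * β ∈ F₀ := by
    have h1 : β * β * β * μ' = 1 := by
      rw [hμ']; linear_combination hdet + β * β * μ * hNl
    rw [eq_inv_of_mul_eq_one_left h1]
    exact F₀.inv_mem hμ
  set z := y * y * y * ut hf e a with hz
  have hye : (y : Matrix (Fin 3) (Fin 3) F) *ᵥ e = β • e := hl
  have hyv' : (y : Matrix (Fin 3) (Fin 3) F) *ᵥ v = (β * μ') • v + (β * ν') • e := by
    rw [← hy', ← hy']; exact hyv
  have hyd' : (y : Matrix (Fin 3) (Fin 3) F) *ᵥ d = (β * α') • e + β • d + (β * γ') • v := by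
    rw [← hy', ← hy']; exact hyd
  have hze : (z : Matrix (Fin 3) (Fin 3) F) *ᵥ e = (β * β * β) • e := by
    simp only [hz, mul_mulVec, ut_mulVec hf T.ee, T.ee, mul_zero, zero_smul, add_zero, hye,
      mulVec_smul, smul_smul, mul_assoc]
  have hzv : (z : Matrix (Fin 3) (Fin 3) F) *ᵥ v = (β * β * β) • ((μ' * μ' * μ') • v
      + (ν' * (1 + μ' + μ' * μ')) • e) := by
    simp only [hz, mul_mulVec, ut_mulVec hf T.ee, T.ve, mul_zero, zero_smul, add_zero, hye, hyv',
      mulVec_add, mulVec_smul]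
    module
  have hzd : (z : Matrix (Fin 3) (Fin 3) F) *ᵥ d = (β * β * β) • ((α₀ + γ' * ν' * (2 + μ')) • e
      + d + (γ' * (1 + μ' + μ' * μ')) • v) := by
    simp only [hz, mul_mulVec, ut_mulVec hf T.ee, T.de, mul_one, hye, hyv', hyd',
      mulVec_add, mulVec_smul]
    match_scalars <;> try ring
    rw [ha]; linear_combination (2 * β ^ 3 * α') * h2
  have hzM : z ∈ M := by
    have hs2 : (1 : F) + μ' + μ' * μ' ∈ F₀ :=
      F₀.add_mem (F₀.add_mem F₀.one_mem hμ) (F₀.mul_mem hμ hμ)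
    refine hO.2 z ⟨Subgroup.mul_mem _ (H.iso_of_mem hO (M.mul_mem (M.mul_mem hy hy) hy))
        (ut_mem_iso hf T.ee haσ),
      Subgroup.mul_mem _ (hO.1 (M.mul_mem (M.mul_mem hy hy) hy)).2 (ut_mem_sl hf e a)⟩
      fun w hw => ?_
    obtain ⟨w1, w2, w3⟩ := (T.mem_iff w).1 hw
    rw [T.expand w, mulVec_add, mulVec_add, mulVec_smul, mulVec_smul, mulVec_smul, hze, hzv, hzd]
    refine V.add_mem (V.add_mem (H.smul _ w1 _ (H.smul _ hl3 _ T.he))
      (H.smul _ w2 _ (H.smul _ hl3 _ ?_))) (H.smul _ w3 _ (H.smul _ hl3 _ ?_))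
    · exact V.add_mem (V.add_mem (H.smul _ (F₀.add_mem hα₀ (F₀.mul_mem (F₀.mul_mem hγF hν)
        (F₀.add_mem (natCast_mem F₀ 2) hμ))) _ T.he) T.hd) (H.smul _ (F₀.mul_mem hγF hs2) _ T.hv)
    · exact V.add_mem (H.smul _ (F₀.mul_mem (F₀.mul_mem hμ hμ) hμ) _ T.hv)
        (H.smul _ (F₀.mul_mem hν hs2) _ T.he)
  have haM : ut hf e a ∈ M :=
    (M.mul_mem_cancel_left (M.mul_mem (M.mul_mem hy hy) hy)).1 hzM
  have hαF : α' ∈ F₀ := by
    have := F₀.sub_mem (hN e he a haσ haM) hα₀
    rwa [ha, add_sub_cancel_right] at this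
  refine T.mem_ratGrp_of (c := σ β) ((map_ne_zero_iff σ σ.injective).2 hl0) ?_ ?_ ?_
  · rw [hl, smul_smul, mul_comm, hNl, one_smul]; exact T.he
  · rw [hyd, smul_add, smul_add, smul_smul, smul_smul, smul_smul, mul_comm (σ β) β, hNl, one_smul]
    exact V.add_mem (V.add_mem (H.smul _ hαF _ T.he) T.hd) (H.smul _ hγF _ T.hv)
  · rw [hyv, smul_add, smul_smul, smul_smul]
    exact V.add_mem (H.smul _ hμ _ T.hv) (H.smul _ hν _ T.he)

end Cfsg.Agent.H98.UThree.Sub
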